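import Groth.Agent.UnibConn.Main
import Mathlib.AlgebraicGeometry.Noetherian
import Mathlib.RingTheory.LocalProperties.Reduced
import Mathlib.RingTheory.Localization.BaseChange

/-!
# Gluing the connectedness of punctured local schemes
-/

universe u

open TensorProduct CategoryTheory Limits AlgebraicGeometry TopologicalSpace

namespace Groth.Agent.UnibConn

section Algebra

variable {R S A B : Type u} [CommRing R] [CommRing S] [CommRing A] [CommRing B] [Algebra R S] [Algebra R A]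
  [Algebra S B] [Algebra R B] [Algebra A B] [IsScalarTower R S B] [IsScalarTower R A B]

/-- Geometrically reduced fibres pass to localisations of source and target. -/
theorem isReduced_tensor_localization (p : Submonoid R) [IsLocalization p A] (q : Submonoid S)
    [IsLocalization q B]
    (h : ∀ (L : Type u) [Field L] [Algebra R L], _root_.IsReduced (L ⊗[R] S))
    (L : Type u) [Field L] [Algebra A L] : _root_.IsReduced (L ⊗[A] B) := by
  letI : Algebra R L := ((algebraMap A L).comp (algebraMap R A)).toAlgebra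
  haveI : IsScalarTower R A L := IsScalarTower.of_algebraMap_eq' rfl
  let ψ : L ⊗[R] S →ₐ[L] L ⊗[R] B :=
    Algebra.TensorProduct.map (AlgHom.id L L) (IsScalarTower.toAlgHom R S B)
  letI : Algebra (L ⊗[R] S) (L ⊗[R] B) := ψ.toRingHom.toAlgebra
  haveI : IsScalarTower L (L ⊗[R] S) (L ⊗[R] B) := IsScalarTower.of_algebraMap_eq' ψ.comp_algebraMap.symm
  haveI := IsLocalization.tensorProduct_tensorProduct_right R L q B (A := S) (RingHom.ext fun s => by
    show ψ ((1 : L) ⊗ₜ[R] s) = (1 : L) ⊗ₜ[R] algebraMap S B s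
    exact Algebra.TensorProduct.map_tmul _ _ _ _)
  haveI := h L
  haveI : _root_.IsReduced (L ⊗[R] B) := isReduced_localizationPreserves
    (q.map (Algebra.TensorProduct.includeRight (R := R) (A := L))) (L ⊗[R] B) inferInstance
  exact isReduced_of_injective (IsLocalization.algebraTensorEquiv p A L B).toRingEquiv.toRingHom
    (IsLocalization.algebraTensorEquiv p A L B).injective

end Algebra

variable {X Y : Scheme.{u}}

attribute [local instance] IsAffineOpen.isOpenImmersion_fromSpec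

theorem geometricallyReduced_openImmersion_comp {U : Scheme.{u}} (j : U ⟶ X) [IsOpenImmersion j]
    (f : X ⟶ Y) [GeometricallyReduced f] : GeometricallyReduced (j ≫ f) := by
  refine ⟨geometrically_iff_of_isClosedUnderIsomorphisms.mpr fun K _ y => ?_⟩
  haveI : AlgebraicGeometry.IsReduced (pullback f y) :=
    pullback_of_geometrically (GeometricallyReduced.geometrically_isReduced (f := f)) K y
  haveI : AlgebraicGeometry.IsReduced (pullback j (pullback.fst f y)) :=
    isReduced_of_isOpenImmersion (pullback.snd j (pullback.fst f y))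
  exact isReduced_of_isOpenImmersion (pullbackRightPullbackFstIso f y j).inv

theorem geometricallyReduced_of_comp_mono {W : Scheme.{u}} (g : X ⟶ W) (m : W ⟶ Y) [Mono m]
    [GeometricallyReduced (g ≫ m)] : GeometricallyReduced g :=
  MorphismProperty.of_isPullback (P := @GeometricallyReduced)
    (IsPullback.of_vert_isIso_mono (fst := g) (snd := 𝟙 X) (f := m) (g := g ≫ m) ⟨by simp⟩).flip
    inferInstance

/-- The local homomorphisms of a morphism with geometrically reduced fibres. -/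
theorem isReduced_tensor_stalk (f : X ⟶ Y) [GeometricallyReduced f] (x : X)
    [Algebra (Y.presheaf.stalk (f x)) (X.presheaf.stalk x)]
    (halg : algebraMap (Y.presheaf.stalk (f x)) (X.presheaf.stalk x) = (f.stalkMap x).hom)
    (L : Type u) [Field L] [Algebra (Y.presheaf.stalk (f x)) L] :
    _root_.IsReduced (L ⊗[Y.presheaf.stalk (f x)] X.presheaf.stalk x) := by
  obtain ⟨_, ⟨V, hV, rfl⟩, hyV, -⟩ :=
    Y.isBasis_affineOpens.exists_subset_of_mem_open (Set.mem_univ (f x)) isOpen_univ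
  replace hV : IsAffineOpen V := hV
  obtain ⟨_, ⟨U, hU, rfl⟩, hxU, hUV⟩ :=
    X.isBasis_affineOpens.exists_subset_of_mem_open (show x ∈ f ⁻¹ᵁ V from hyV) (f ⁻¹ᵁ V).2
  replace hUV : U ≤ f ⁻¹ᵁ V := hUV
  replace hU : IsAffineOpen U := hU
  let y : V := ⟨f x, hyV⟩
  let x' : U := ⟨x, hxU⟩
  letI : Algebra Γ(Y, V) Γ(X, U) := (f.appLE V U hUV).hom.toAlgebra
  letI := TopCat.Presheaf.algebra_section_stalk Y.presheaf y
  letI := TopCat.Presheaf.algebra_section_stalk X.presheaf x'
  letI : Algebra Γ(Y, V) (X.presheaf.stalk x) :=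
    ((algebraMap Γ(X, U) (X.presheaf.stalk x)).comp (algebraMap Γ(Y, V) Γ(X, U))).toAlgebra
  haveI : IsScalarTower Γ(Y, V) Γ(X, U) (X.presheaf.stalk x) := IsScalarTower.of_algebraMap_eq' rfl
  haveI : IsScalarTower Γ(Y, V) (Y.presheaf.stalk (f x)) (X.presheaf.stalk x) := by
    refine IsScalarTower.of_algebraMap_eq fun r => ?_
    rw [halg]
    show X.presheaf.germ U x hxU ((f.appLE V U hUV).hom r) = f.stalkMap x (Y.presheaf.germ V (f x) hyV r)
    rw [Scheme.Hom.germ_stalkMap_apply]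
    show X.presheaf.germ U x hxU ((f.app V ≫ X.presheaf.map (homOfLE hUV).op).hom r) = _
    exact X.presheaf.germ_res_apply (homOfLE hUV) x hxU (f.app V r)
  haveI := hV.isLocalization_stalk y
  haveI := hU.isLocalization_stalk x'
  haveI : GeometricallyReduced (hU.fromSpec ≫ f) := geometricallyReduced_openImmersion_comp _ f
  haveI : GeometricallyReduced (Spec.map (f.appLE V U hUV)) := by
    haveI : GeometricallyReduced (Spec.map (f.appLE V U hUV) ≫ hV.fromSpec) := by
      rw [IsAffineOpen.SpecMap_appLE_fromSpec]; infer_instance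
    exact geometricallyReduced_of_comp_mono _ hV.fromSpec
  haveI : GeometricallyReduced
      (Spec.map (CommRingCat.ofHom (algebraMap Γ(Y, V) Γ(X, U)))) := ‹_›
  exact isReduced_tensor_localization (hV.primeIdealOf y).asIdeal.primeCompl
    (hU.primeIdealOf x').asIdeal.primeCompl (fun L _ _ => isReduced_tensor_field L) L

/-- Points with no proper generalisation. -/
def IsMaxPoint {Z : Type*} [TopologicalSpace Z] (η : Z) : Prop := ∀ z, z ⤳ η → z = η

theorem exists_finite_maxPoint [IsLocallyNoetherian X] (x : X) :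
    ∃ (W : Set X) (M : Set X), IsOpen W ∧ x ∈ W ∧ M.Finite ∧ M ⊆ W ∧ (∀ η ∈ M, IsMaxPoint η) ∧
      ∀ z ∈ W, ∃ η ∈ M, η ⤳ z := by
  obtain ⟨_, ⟨U, hU, rfl⟩, hxU, -⟩ :=
    X.isBasis_affineOpens.exists_subset_of_mem_open (Set.mem_univ x) isOpen_univ
  replace hU : IsAffineOpen U := hU
  haveI : IsNoetherianRing Γ(X, U) := IsLocallyNoetherian.component_noetherian ⟨U, hU⟩
  have hrange : Set.range hU.fromSpec = (U : Set X) := hU.range_fromSpec
  have hemb := hU.fromSpec.isOpenEmbedding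
  refine ⟨U, hU.fromSpec '' {p | p.asIdeal ∈ minimalPrimes Γ(X, U)}, U.2, hxU, ?_, ?_, ?_, ?_⟩
  · refine Set.Finite.image _ (Set.Finite.of_finite_image ?_ (f := PrimeSpectrum.asIdeal)
      (fun a _ b _ h => PrimeSpectrum.ext h))
    exact (minimalPrimes.finite_of_isNoetherianRing _).subset (by rintro _ ⟨p, hp, rfl⟩; exact hp)
  · rintro _ ⟨p, -, rfl⟩; exact hrange.le ⟨p, rfl⟩
  · rintro _ ⟨p, hp, rfl⟩ z hz
    obtain ⟨q, rfl⟩ := hrange.ge (hz.mem_open U.2 (hrange.le ⟨p, rfl⟩))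
    have hqp : q.asIdeal ≤ p.asIdeal :=
      (PrimeSpectrum.le_iff_specializes q p).2 (hemb.isInducing.specializes_iff.1 hz)
    exact congrArg hU.fromSpec (PrimeSpectrum.ext (le_antisymm hqp (hp.2 ⟨q.2, bot_le⟩ hqp)))
  · intro z hz
    obtain ⟨q, rfl⟩ := hrange.ge hz
    haveI := q.2
    obtain ⟨P, hP, hPq⟩ := Ideal.exists_minimalPrimes_le (I := (⊥ : Ideal Γ(X, U))) (J := q.asIdeal) bot_le
    refine ⟨hU.fromSpec ⟨P, hP.1.1⟩, ⟨_, hP, rfl⟩, ?_⟩
    exact ((PrimeSpectrum.le_iff_specializes ⟨P, hP.1.1⟩ q).1 hPq).map hU.fromSpec.continuous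

/-- A maximal point is the generic point of a nonempty open subset. -/
theorem exists_open_generic [IsLocallyNoetherian X] (η : X) (hη : IsMaxPoint η) :
    ∃ U : Set X, IsOpen U ∧ η ∈ U ∧ ∀ z ∈ U, η ⤳ z := by
  obtain ⟨W, M, hW, hηW, hfin, -, hM, hcov⟩ := exists_finite_maxPoint η
  refine ⟨W \ ⋃ ξ ∈ M \ {η}, closure {ξ}, hW.sdiff ((hfin.sdiff).isClosed_biUnion fun _ _ => isClosed_closure),
    ⟨hηW, ?_⟩, fun z hz => ?_⟩
  · simp only [Set.mem_iUnion, not_exists]
    intro ξ hξ hmem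
    exact hξ.2 (hη ξ (specializes_iff_mem_closure.2 hmem))
  · obtain ⟨ξ, hξ, hξz⟩ := hcov z hz.1
    by_cases h : ξ = η
    · exact h ▸ hξz
    · exact absurd (Set.mem_iUnion₂.2 ⟨ξ, ⟨hξ, h⟩, hξz.mem_closure⟩) hz.2

/-- If all punctured local schemes are connected, so is the complement. -/
theorem isConnected_compl_of_local [IsLocallyNoetherian X] [ConnectedSpace X] (T : Set X)
    (hmax : ∀ η : X, IsMaxPoint η → η ∉ T)
    (h : ∀ x : X, IsPreconnected ({z | z ⤳ x} \ T)) : IsConnected Tᶜ := by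
  classical
  have hex : ∀ x : X, ∃ η, IsMaxPoint η ∧ η ⤳ x := by
    intro x
    obtain ⟨W, M, -, hxW, -, -, hM, hcov⟩ := exists_finite_maxPoint x
    obtain ⟨η, hη, hηx⟩ := hcov x hxW
    exact ⟨η, hM η hη, hηx⟩
  refine ⟨?_, ?_⟩
  · obtain ⟨x⟩ := (inferInstance : Nonempty X)
    obtain ⟨η, hη, -⟩ := hex x
    exact ⟨η, hmax η hη⟩
  intro U V hU hV hsub ⟨a, haT, haU⟩ ⟨b, hbT, hbV⟩
  by_contra hUV
  rw [Set.not_nonempty_iff_eq_empty] at hUV
  have hdis : ∀ z, z ∉ T → z ∈ U → z ∉ V := fun z hz h1 h2 => by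
    have : z ∈ Tᶜ ∩ (U ∩ V) := ⟨hz, h1, h2⟩
    rw [hUV] at this
    exact this
  let SU : Set X := {x | ∀ z, z ⤳ x → z ∉ T → z ∈ U}
  have key : ∀ x z, z ⤳ x → z ∉ T → z ∈ U → x ∈ SU := by
    intro x z hz hzT hzU w hw hwT
    rcases hsub (show w ∈ Tᶜ from hwT) with h1 | h1
    · exact h1
    exfalso
    obtain ⟨v, hv, hvU, hvV⟩ := h x U V hU hV (fun v hv => hsub hv.2)
      ⟨z, ⟨hz, hzT⟩, hzU⟩ ⟨w, ⟨hw, hwT⟩, h1⟩
    exact hdis v hv.2 hvU hvV
  have hopen : IsOpen SU := by
    rw [isOpen_iff_forall_mem_open]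
    intro x hx
    obtain ⟨W, M, hW, hxW, hfin, -, hM, hcov⟩ := exists_finite_maxPoint x
    refine ⟨W \ ⋃ ξ ∈ {ξ ∈ M | ¬ ξ ⤳ x}, closure {ξ}, fun z hz => ?_,
      hW.sdiff ((hfin.subset fun _ h => h.1).isClosed_biUnion fun _ _ => isClosed_closure), hxW, ?_⟩
    · obtain ⟨η, hη, hηz⟩ := hcov z hz.1
      have hηx : η ⤳ x := by
        by_contra hn
        exact hz.2 (Set.mem_iUnion₂.2 ⟨η, ⟨hη, hn⟩, hηz.mem_closure⟩)
      exact key z η hηz (hmax η (hM η hη)) (hx η hηx (hmax η (hM η hη)))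
    · simp only [Set.mem_iUnion, not_exists]
      intro ξ hξ hmem
      exact hξ.2 (specializes_iff_mem_closure.2 hmem)
  have hclosed : IsClosed SU := by
    rw [← isOpen_compl_iff, isOpen_iff_forall_mem_open]
    intro x hx
    obtain ⟨W, M, hW, hxW, hfin, -, hM, hcov⟩ := exists_finite_maxPoint x
    refine ⟨W \ ⋃ ξ ∈ {ξ ∈ M | ¬ ξ ⤳ x}, closure {ξ}, fun z hz hzU => hx ?_,
      hW.sdiff ((hfin.subset fun _ h => h.1).isClosed_biUnion fun _ _ => isClosed_closure), hxW, ?_⟩
    · obtain ⟨η, hη, hηz⟩ := hcov z hz.1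
      have hηx : η ⤳ x := by
        by_contra hn
        exact hz.2 (Set.mem_iUnion₂.2 ⟨η, ⟨hη, hn⟩, hηz.mem_closure⟩)
      exact key x η hηx (hmax η (hM η hη)) (hzU η hηz (hmax η (hM η hη)))
    · simp only [Set.mem_iUnion, not_exists]
      intro ξ hξ hmem
      exact hξ.2 (specializes_iff_mem_closure.2 hmem)
  rcases isClopen_iff.1 (⟨hclosed, hopen⟩ : IsClopen SU) with h0 | h1
  · have := key a a specializes_rfl haT haU
    rw [h0] at this
    exact this
  · exact hdis b hbT ((h1.ge (Set.mem_univ b) : b ∈ SU) b specializes_rfl hbT) hbV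

end Groth.Agent.UnibConn
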