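import Groth.Agent.UnibConn.Punctured
import Mathlib.RingTheory.Localization.LocalizationLocalization
import Mathlib.RingTheory.Localization.Integral

/-!
# The fibres of the normalisation of a Noetherian domain are finite
-/

universe u

namespace Groth.Agent.UnibConn

section Local

variable (A : Type u) [CommRing A] [IsDomain A] [IsNoetherianRing A] [IsLocalRing A]
  (K : Type u) [Field K] [Algebra A K] [IsFractionRing A K]

local notation "R'" => AdicCompletion (IsLocalRing.maximalIdeal A) A

variable {A}

/-- The normalisation maps to the normalisations of the formal components. -/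
noncomputable def thetaQ {Q : Ideal R'} [Q.IsPrime] (hQ : Q ∈ minimalPrimes R') :
    integralClosure A K →+* NQ Q :=
  RingHom.codRestrict ((toFQ K hQ).toRingHom.comp (integralClosure A K).val.toRingHom)
    (integralClosure (R' ⧸ Q) (FQ Q)).toSubring fun x => isIntegral_toFQ K hQ x.2

theorem coe_thetaQ {Q : Ideal R'} [Q.IsPrime] (hQ : Q ∈ minimalPrimes R') (x : integralClosure A K) :
    (thetaQ K hQ x : FQ Q) = toFQ K hQ (x : K) := rfl

theorem thetaQ_injective {Q : Ideal R'} [Q.IsPrime] (hQ : Q ∈ minimalPrimes R') :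
    Function.Injective (thetaQ K hQ) := fun x y h =>
  Subtype.ext ((toFQ K hQ).toRingHom.injective (congrArg Subtype.val h))

variable (A) in
/-- The normalisation of a Noetherian local domain is semi-local. -/
theorem finite_maximal_normalisation : {M : Ideal (integralClosure A K) | M.IsMaximal}.Finite := by
  classical
  haveI := isNoetherianRing_completion (A := A)
  haveI : ∀ Q : Ideal R', ∀ [Q.IsPrime], IsLocalRing (NQ Q) := fun Q _ => isLocalRing_NQ Q
  let T := {Q : Ideal R' // Q ∈ minimalPrimes R'}
  haveI : Finite T := (minimalPrimes.finite_of_isNoetherianRing R').to_subtype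
  haveI : ∀ Q : T, (Q.1).IsPrime := fun Q => Q.2.1.1
  let c : T → Ideal (integralClosure A K) := fun Q =>
    (IsLocalRing.maximalIdeal (NQ Q.1)).comap (thetaQ K Q.2)
  refine (Set.finite_range c).subset fun M hM => ?_
  haveI : M.IsMaximal := hM
  have hsub : (M : Set (integralClosure A K)) ⊆ ⋃ Q ∈ ((Set.finite_univ (α := T)).toFinset : Set T), (c Q : Set _) := by
    intro y hy
    by_contra hno
    simp only [Set.Finite.coe_toFinset, Set.mem_univ, Set.iUnion_true, Set.mem_iUnion, not_exists] at hno
    have hu : ∀ Q : T, IsUnit (thetaQ K Q.2 y) := fun Q => by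
      by_contra hn
      exact hno Q ((IsLocalRing.mem_maximalIdeal _).2 hn)
    have hy0 : (y : K) ≠ 0 := by
      intro h0
      obtain ⟨m, hm⟩ := Ideal.exists_maximal R'
      haveI := hm.isPrime
      obtain ⟨Q, hQ, -⟩ := Ideal.exists_minimalPrimes_le (I := (⊥ : Ideal R')) (J := m) bot_le
      have hh := hu ⟨Q, hQ⟩
      rw [show y = 0 from Subtype.ext h0, map_zero] at hh
      exact not_isUnit_zero hh
    have hint : IsIntegral A (y : K)⁻¹ := isIntegral_of_forall_toFQ K fun Q _ hQ => by
      obtain ⟨v, hv⟩ := hu ⟨Q, hQ⟩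
      have e : toFQ K hQ (y : K)⁻¹ = ((v⁻¹ : (NQ Q)ˣ) : NQ Q).1 := by
        rw [map_inv₀, ← coe_thetaQ K hQ y, ← hv]
        refine inv_eq_of_mul_eq_one_left ?_
        exact (congrArg Subtype.val v.inv_mul)
      rw [e]
      exact ((v⁻¹ : (NQ Q)ˣ) : NQ Q).2
    exact hM.ne_top (Ideal.eq_top_of_isUnit_mem _ hy
      ⟨⟨y, ⟨_, hint⟩, Subtype.ext (mul_inv_cancel₀ hy0), Subtype.ext (inv_mul_cancel₀ hy0)⟩, rfl⟩)
  obtain ⟨m, hm⟩ := Ideal.exists_maximal R'
  haveI := hm.isPrime
  obtain ⟨Q, hQ, -⟩ := Ideal.exists_minimalPrimes_le (I := (⊥ : Ideal R')) (J := m) bot_le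
  obtain ⟨Q', -, hle⟩ := (Ideal.subset_union_prime (f := c) ⟨Q, hQ⟩ ⟨Q, hQ⟩
    fun Q' _ _ _ => Ideal.comap_isPrime _ _).1 hsub
  exact ⟨Q', (hM.eq_of_le (Ideal.IsPrime.ne_top (Ideal.comap_isPrime _ _)) hle).symm⟩

end Local

section Localization

variable (C : Type u) [CommRing C] [IsDomain C] (K : Type u) [Field K] [Algebra C K] [IsFractionRing C K]
  (B : Type u) [CommRing B] [Algebra C B] [Algebra B K] [IsScalarTower C B K] [IsIntegralClosure B C K]
  (z : Ideal C) [z.IsPrime]

/-- The fraction field as an algebra over a local ring. -/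
noncomputable abbrev algAtPrime : Algebra (Localization.AtPrime z) K :=
  (IsLocalization.lift (M := z.primeCompl) (g := algebraMap C K) fun y =>
    isUnit_iff_ne_zero.2 fun h => y.2 (by
      rw [IsFractionRing.injective C K (h.trans (map_zero _).symm)]; exact z.zero_mem)).toAlgebra

variable [Algebra (Localization.AtPrime z) K] [IsScalarTower C (Localization.AtPrime z) K]

theorem isFractionRing_atPrime : IsFractionRing (Localization.AtPrime z) K :=
  IsFractionRing.isFractionRing_of_isDomain_of_isLocalization z.primeCompl _ _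

/-- The normalisation inside the normalisation of the local ring. -/
noncomputable def toNormAtPrime : B →+* integralClosure (Localization.AtPrime z) K :=
  RingHom.codRestrict (algebraMap B K) (integralClosure (Localization.AtPrime z) K).toSubring
    fun b => IsIntegral.tower_top (R := C) ((IsIntegralClosure.isIntegral_iff (A := B)).2 ⟨b, rfl⟩)

omit [IsDomain C] [IsFractionRing C K] in
theorem mem_normAtPrime_iff (x : K) :
    IsIntegral (Localization.AtPrime z) x ↔ ∃ s, s ∉ z ∧ IsIntegral C (algebraMap C K s * x) := by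
  constructor
  · intro hx
    obtain ⟨⟨m, hm⟩, h⟩ := IsIntegral.exists_multiple_integral_of_isLocalization z.primeCompl x hx
    rw [Submonoid.smul_def, Algebra.smul_def] at h
    exact ⟨m, hm, h⟩
  · rintro ⟨s, hs, h⟩
    obtain ⟨u, hu⟩ := IsLocalization.map_units (Localization.AtPrime z) (⟨s, hs⟩ : z.primeCompl)
    have h2 : IsIntegral (Localization.AtPrime z) (algebraMap C K s * x) := IsIntegral.tower_top h
    have e : x = algebraMap (Localization.AtPrime z) K (u⁻¹ : (Localization.AtPrime z)ˣ) * (algebraMap C K s * x) := by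
      rw [← mul_assoc, IsScalarTower.algebraMap_apply C (Localization.AtPrime z) K, ← map_mul,
        show algebraMap C (Localization.AtPrime z) s = u from hu.symm, Units.inv_mul, map_one, one_mul]
    rw [e]
    exact isIntegral_algebraMap.mul h2

omit [IsDomain C] [IsFractionRing C K] in
theorem exists_mul_eq_toNormAtPrime (d : integralClosure (Localization.AtPrime z) K) :
    ∃ s, s ∉ z ∧ ∃ b : B, toNormAtPrime C K B z (algebraMap C B s) * d = toNormAtPrime C K B z b := by
  obtain ⟨s, hs, h⟩ := (mem_normAtPrime_iff C K z (d : K)).1 d.2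
  obtain ⟨b, hb⟩ := (IsIntegralClosure.isIntegral_iff (A := B)).1 h
  refine ⟨s, hs, b, Subtype.ext ?_⟩
  show algebraMap B K (algebraMap C B s) * (d : K) = algebraMap B K b
  rw [hb, ← IsScalarTower.algebraMap_apply]

theorem comap_toNormAtPrime (M' : Ideal (integralClosure (Localization.AtPrime z) K)) [M'.IsMaximal] :
    ((M'.comap (toNormAtPrime C K B z)).comap (algebraMap C B)) = z := by
  haveI : Algebra.IsIntegral (Localization.AtPrime z) (integralClosure (Localization.AtPrime z) K) :=
    inferInstance
  rw [Ideal.comap_comap, show (toNormAtPrime C K B z).comp (algebraMap C B) =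
    (algebraMap (Localization.AtPrime z) (integralClosure (Localization.AtPrime z) K)).comp
      (algebraMap C (Localization.AtPrime z)) from RingHom.ext fun c => Subtype.ext (by
      show algebraMap B K (algebraMap C B c) = _
      rw [← IsScalarTower.algebraMap_apply, IsScalarTower.algebraMap_apply C (Localization.AtPrime z) K]
      rfl), ← Ideal.comap_comap,
    IsLocalRing.eq_maximalIdeal (Ideal.isMaximal_comap_of_isIntegral_of_isMaximal (R := Localization.AtPrime z) M')]
  exact Localization.AtPrime.comap_maximalIdeal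

/-- The maximal ideals of the normalisation of a local ring are determined in the normalisation. -/
theorem comap_toNormAtPrime_injective (M₁ M₂ : Ideal (integralClosure (Localization.AtPrime z) K))
    [M₁.IsMaximal] [M₂.IsMaximal]
    (h : M₁.comap (toNormAtPrime C K B z) = M₂.comap (toNormAtPrime C K B z)) : M₁ = M₂ := by
  refine ‹M₁.IsMaximal›.eq_of_le (Ideal.IsMaximal.ne_top ‹_›) fun d hd => ?_
  obtain ⟨s, hs, b, hb⟩ := exists_mul_eq_toNormAtPrime C K B z d
  have hb1 : b ∈ M₁.comap (toNormAtPrime C K B z) := by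
    rw [Ideal.mem_comap, ← hb]; exact Ideal.mul_mem_left _ _ hd
  rw [h, Ideal.mem_comap, ← hb] at hb1
  rcases (inferInstance : M₂.IsPrime).mem_or_mem hb1 with h1 | h1
  · exact absurd ((comap_toNormAtPrime C K B z M₂).le h1) hs
  · exact h1

/-- Every prime over `z` comes from the normalisation of the local ring. -/
theorem exists_maximal_over (M : Ideal B) [M.IsPrime] (hM : M.comap (algebraMap C B) = z) :
    ∃ M' : Ideal (integralClosure (Localization.AtPrime z) K),
      M'.IsMaximal ∧ M'.comap (toNormAtPrime C K B z) = M := by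
  let ι := toNormAtPrime C K B z
  have key : ∀ d ∈ M.map ι, ∃ s, s ∉ z ∧ ∃ b ∈ M, ι (algebraMap C B s) * d = ι b := by
    intro d hd
    refine Submodule.span_induction ?_ ?_ ?_ ?_ hd
    · rintro _ ⟨b, hb, rfl⟩
      exact ⟨1, z.one_notMem, b, hb, by simp⟩
    · exact ⟨1, z.one_notMem, 0, M.zero_mem, by simp⟩
    · rintro x y - - ⟨s, hs, b, hb, hx⟩ ⟨t, ht, b', hb', hy⟩
      refine ⟨s * t, fun h => (Ideal.IsPrime.mem_or_mem inferInstance h).elim hs ht,
        algebraMap C B t * b + algebraMap C B s * b', add_mem (M.mul_mem_left _ hb) (M.mul_mem_left _ hb'), ?_⟩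
      simp only [map_mul, map_add, ← hx, ← hy]
      ring
    · rintro r x - ⟨s, hs, b, hb, hx⟩
      obtain ⟨t, ht, b', hb'⟩ := exists_mul_eq_toNormAtPrime C K B z r
      refine ⟨s * t, fun h => (Ideal.IsPrime.mem_or_mem inferInstance h).elim hs ht, b' * b,
        M.mul_mem_left _ hb, ?_⟩
      simp only [map_mul, smul_eq_mul]
      rw [← hx, ← hb']
      ring
  have hne : M.map ι ≠ ⊤ := by
    intro htop
    obtain ⟨s, hs, b, hb, h1⟩ := key 1 (htop ▸ Submodule.mem_top)
    rw [mul_one] at h1
    have : algebraMap C B s = b :=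
      IsIntegralClosure.algebraMap_injective B C K (congrArg Subtype.val h1)
    exact hs (hM.le (show algebraMap C B s ∈ M from this ▸ hb))
  obtain ⟨M', hM', hle⟩ := Ideal.exists_le_maximal _ hne
  refine ⟨M', hM', ?_⟩
  haveI := hM'
  haveI : (M'.comap ι).IsPrime := Ideal.comap_isPrime _ _
  have hle' : M ≤ M'.comap ι := Ideal.map_le_iff_le_comap.1 hle
  haveI : Algebra.IsIntegral C B := IsIntegralClosure.isIntegral_algebra C K
  by_contra hne'
  have hlt : M < M'.comap ι := lt_of_le_of_ne hle' (Ne.symm hne')
  have := Ideal.IsIntegral.comap_lt_comap (R := C) hlt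
  rw [hM, show Ideal.comap (algebraMap C B) (M'.comap ι) = z from comap_toNormAtPrime C K B z M'] at this
  exact lt_irrefl _ this

end Localization

/-- The normalisation of a Noetherian domain has finite fibres. -/
theorem finite_primes_over (C : Type u) [CommRing C] [IsDomain C] [IsNoetherianRing C]
    (K : Type u) [Field K] [Algebra C K] [IsFractionRing C K]
    (B : Type u) [CommRing B] [Algebra C B] [Algebra B K] [IsScalarTower C B K] [IsIntegralClosure B C K]
    (z : Ideal C) [z.IsPrime] : {M : Ideal B | M.IsPrime ∧ M.comap (algebraMap C B) = z}.Finite := by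
  letI := algAtPrime C K z
  haveI : IsScalarTower C (Localization.AtPrime z) K :=
    IsScalarTower.of_algebraMap_eq' (IsLocalization.lift_comp _).symm
  haveI := isFractionRing_atPrime C K z
  haveI : IsDomain (Localization.AtPrime z) :=
    IsLocalization.isDomain_localization z.primeCompl_le_nonZeroDivisors
  haveI : IsNoetherianRing (Localization.AtPrime z) :=
    IsLocalization.isNoetherianRing z.primeCompl _ ‹_›
  refine ((finite_maximal_normalisation (Localization.AtPrime z) K).image
    (Ideal.comap (toNormAtPrime C K B z))).subset ?_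
  rintro M ⟨hM, hMz⟩
  haveI := hM
  obtain ⟨M', hM', h⟩ := exists_maximal_over C K B z M hMz
  exact ⟨M', hM', h⟩

/-- The normalisation of a local ring with a single prime above is local. -/
theorem isLocalRing_normAtPrime (C : Type u) [CommRing C] [IsDomain C]
    (K : Type u) [Field K] [Algebra C K] [IsFractionRing C K]
    (B : Type u) [CommRing B] [Algebra C B] [Algebra B K] [IsScalarTower C B K] [IsIntegralClosure B C K]
    (z : Ideal C) [z.IsPrime] [Algebra (Localization.AtPrime z) K] [IsScalarTower C (Localization.AtPrime z) K]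
    (h : ∀ M₁ M₂ : Ideal B, M₁.IsPrime → M₂.IsPrime → M₁.comap (algebraMap C B) = z →
      M₂.comap (algebraMap C B) = z → M₁ = M₂) :
    IsLocalRing (integralClosure (Localization.AtPrime z) K) := by
  obtain ⟨M, hM⟩ := Ideal.exists_maximal (integralClosure (Localization.AtPrime z) K)
  refine IsLocalRing.of_unique_max_ideal ⟨M, hM, fun M' hM' => ?_⟩
  haveI := hM
  haveI := hM'
  exact comap_toNormAtPrime_injective C K B z M' M (h _ _ (Ideal.comap_isPrime _ _) (Ideal.comap_isPrime _ _)
    (comap_toNormAtPrime C K B z M') (comap_toNormAtPrime C K B z M))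

end Groth.Agent.UnibConn
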