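import Mathlib.RingTheory.Valuation.ValuationSubring
import Mathlib.RingTheory.LocalRing.ResidueField.Basic
import Mathlib.Algebra.CharP.Basic
import Mathlib.Algebra.Ring.GeomSum
import Mathlib.Tactic.FieldSimp
import Mathlib.RingTheory.Ideal.BigOperators
import Mathlib.Algebra.BigOperators.Field

/-!
# A local intersection of finitely many valuation rings is one of them
-/

universe u

namespace Groth.Agent.UnibConn

variable {K : Type u} [Field K]

/-- In a field, geometric sums of length `≡ 1` modulo a suitable number do not vanish. -/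
theorem exists_period {k : Type u} [Field k] (r : k) :
    ∃ L ≥ 1, ∀ n, 1 ≤ n → L ∣ n - 1 → ∑ i ∈ Finset.range n, r ^ i ≠ 0 := by
  by_cases hr1 : r = 1
  · subst hr1
    obtain ⟨p, hp⟩ := CharP.exists k
    refine ⟨if p = 0 then 1 else p, by split_ifs with h <;> omega, fun n hn hL h0 => ?_⟩
    simp only [one_pow, Finset.sum_const, Finset.card_range, nsmul_eq_mul, mul_one] at h0
    rw [CharP.cast_eq_zero_iff k p] at h0
    by_cases hp0 : p = 0
    · subst hp0; simp at h0; omega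
    · rw [if_neg hp0] at hL
      have h1 : p ∣ 1 := by
        have := Nat.dvd_sub h0 hL
        rwa [show n - (n - 1) = 1 by omega] at this
      exact CharP.char_ne_one k p (Nat.dvd_one.1 h1)
  · have hsum : ∀ n, (∑ i ∈ Finset.range n, r ^ i) * (r - 1) = r ^ n - 1 := fun n => geom_sum_mul r n
    by_cases ho : ∃ o ≥ 1, r ^ o = 1
    · obtain ⟨o, ho1, ho⟩ := ho
      refine ⟨o, ho1, fun n hn hL h0 => hr1 ?_⟩
      have h := hsum n
      obtain ⟨j, hj⟩ := hL
      rw [h0, zero_mul, show n = o * j + 1 by omega, pow_succ, pow_mul, ho, one_pow, one_mul] at h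
      exact sub_eq_zero.1 h.symm
    · refine ⟨1, le_rfl, fun n hn _ h0 => ho ⟨n, hn, ?_⟩⟩
      have h := hsum n
      rw [h0, zero_mul] at h
      exact sub_eq_zero.1 h.symm

/-- The fractions `x ^ k / (1 + x + ⋯ + x ^ (n - 1))` lie in the valuation ring. -/
theorem exists_period_valuationSubring (V : ValuationSubring K) (x : K) :
    ∃ L ≥ 1, ∀ n, 1 ≤ n → L ∣ n - 1 →
      (∑ i ∈ Finset.range n, x ^ i) ≠ 0 ∧ ∀ k < n, x ^ k / (∑ i ∈ Finset.range n, x ^ i) ∈ V := by
  have key : ∀ (y : V), ∃ L ≥ 1, ∀ n, 1 ≤ n → L ∣ n - 1 →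
      IsUnit (∑ i ∈ Finset.range n, y ^ i : V) := by
    intro y
    obtain ⟨L, hL, h⟩ := exists_period (IsLocalRing.residue V y)
    refine ⟨L, hL, fun n hn hd => ?_⟩
    by_contra hu
    refine h n hn hd ?_
    have := (IsLocalRing.residue_eq_zero_iff _).2 ((IsLocalRing.mem_maximalIdeal _).2 hu)
    simpa using this
  by_cases hx : x ∈ V
  · obtain ⟨L, hL, h⟩ := key ⟨x, hx⟩
    refine ⟨L, hL, fun n hn hd => ?_⟩
    obtain ⟨u, hu⟩ := h n hn hd
    have hu' : ((u : V) : K) = ∑ i ∈ Finset.range n, x ^ i := by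
      rw [hu, AddSubmonoidClass.coe_finset_sum]; rfl
    have hne : ∑ i ∈ Finset.range n, x ^ i ≠ 0 := by
      rw [← hu']
      exact fun h0 => u.ne_zero (Subtype.ext h0)
    refine ⟨hne, fun k _ => ?_⟩
    rw [← hu', div_eq_mul_inv]
    refine mul_mem (pow_mem hx k) ?_
    have : (((u : V) : K))⁻¹ = ((u⁻¹ : Vˣ) : V) := by
      refine inv_eq_of_mul_eq_one_right ?_
      exact congrArg Subtype.val u.mul_inv
    rw [this]
    exact ((u⁻¹ : Vˣ) : V).2
  · have hx0 : x ≠ 0 := fun h => hx (h ▸ V.zero_mem)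
    have hy : x⁻¹ ∈ V := (V.mem_or_inv_mem x).resolve_left hx
    obtain ⟨L, hL, h⟩ := key ⟨x⁻¹, hy⟩
    refine ⟨L, hL, fun n hn hd => ?_⟩
    obtain ⟨u, hu⟩ := h n hn hd
    have hu' : ((u : V) : K) = ∑ i ∈ Finset.range n, x⁻¹ ^ i := by
      rw [hu, AddSubmonoidClass.coe_finset_sum]; rfl
    have hne' : ((u : V) : K) ≠ 0 := fun h0 => u.ne_zero (Subtype.ext h0)
    have hsum : ∑ i ∈ Finset.range n, x ^ i = x ^ (n - 1) * ((u : V) : K) := by
      rw [hu', Finset.mul_sum, ← Finset.sum_range_reflect]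
      refine Finset.sum_congr rfl fun i hi => ?_
      have hi' : i < n := Finset.mem_range.1 hi
      rw [inv_pow, show n - 1 = (n - 1 - i) + i by omega, pow_add, mul_inv_cancel_right₀ (pow_ne_zero i hx0)]
      congr 1
      omega
    refine ⟨by rw [hsum]; exact mul_ne_zero (pow_ne_zero _ hx0) hne', fun k hk => ?_⟩
    rw [hsum, show x ^ k / (x ^ (n - 1) * ((u : V) : K)) = x⁻¹ ^ (n - 1 - k) * (((u : V) : K))⁻¹ by
      rw [inv_pow, show n - 1 = (n - 1 - k) + k by omega, pow_add]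
      field_simp
      congr 1
      omega]
    refine mul_mem (pow_mem hy _) ?_
    have : (((u : V) : K))⁻¹ = ((u⁻¹ : Vˣ) : V) := by
      refine inv_eq_of_mul_eq_one_right ?_
      exact congrArg Subtype.val u.mul_inv
    rw [this]
    exact ((u⁻¹ : Vˣ) : V).2

/-- A local intersection of finitely many valuation rings is a valuation ring. -/
theorem mem_or_inv_mem_of_isLocalRing (D : Subring K) [IsLocalRing D] {ι : Type*} [Fintype ι]
    (V : ι → ValuationSubring K) (hD : ∀ x, x ∈ D ↔ ∀ i, x ∈ V i) (x : K) : x ∈ D ∨ x⁻¹ ∈ D := by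
  classical
  choose L hL h using fun i => exists_period_valuationSubring (V i) x
  let n := 1 + 2 * ∏ i, L i
  have hLpos : 1 ≤ ∏ i, L i := Finset.one_le_prod' fun i _ => hL i
  have hn : ∀ i, L i ∣ n - 1 := fun i => by
    rw [show n - 1 = 2 * ∏ i, L i by omega]
    exact Dvd.dvd.mul_left (Finset.dvd_prod_of_mem L (Finset.mem_univ i)) 2
  set s := ∑ i ∈ Finset.range n, x ^ i with hs
  have hmem : ∀ k < n, x ^ k / s ∈ D := fun k hk => (hD _).2 fun i => (h i n (by omega) (hn i)).2 k hk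
  let e : Fin n → D := fun k => ⟨x ^ (k : ℕ) / s, hmem k k.2⟩
  by_cases hι : IsEmpty ι
  · exact Or.inl ((hD x).2 fun i => isEmptyElim i)
  rw [not_isEmpty_iff] at hι
  obtain ⟨i₀⟩ := hι
  have hs0 : s ≠ 0 := (h i₀ n (by omega) (hn i₀)).1
  have hone : ∑ k, e k = 1 := by
    refine Subtype.ext ?_
    rw [AddSubmonoidClass.coe_finset_sum]
    show ∑ k : Fin n, x ^ (k : ℕ) / s = 1
    rw [← Finset.sum_div, Fin.sum_univ_eq_sum_range (fun k => x ^ k) n, ← hs, div_self hs0]
  obtain ⟨k, hk⟩ : ∃ k, IsUnit (e k) := by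
    by_contra! hcon
    have : (1 : D) ∈ IsLocalRing.maximalIdeal D := hone ▸ Ideal.sum_mem _ fun k _ =>
      (IsLocalRing.mem_maximalIdeal _).2 (hcon k)
    exact (IsLocalRing.maximalIdeal.isMaximal D).ne_top ((Ideal.eq_top_iff_one _).2 this)
  obtain ⟨u, hu⟩ := hk
  have hu0 : x ^ (k : ℕ) / s ≠ 0 := by
    intro h0
    have : ((u : D) : K) = 0 := by rw [hu]; exact h0
    exact u.ne_zero (Subtype.ext this)
  have hinv : (x ^ (k : ℕ) / s)⁻¹ ∈ D := by
    have : (x ^ (k : ℕ) / s)⁻¹ = ((u⁻¹ : Dˣ) : D) := by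
      refine inv_eq_of_mul_eq_one_right ?_
      have h2 := congrArg Subtype.val u.mul_inv
      rw [hu] at h2
      exact h2
    rw [this]
    exact ((u⁻¹ : Dˣ) : D).2
  by_cases hkn : (k : ℕ) + 1 < n
  · left
    have h2 := mul_mem (hmem _ hkn) hinv
    have hx0 : x ^ (k : ℕ) ≠ 0 := fun h0 => hu0 (by rw [h0, zero_div])
    rwa [show x ^ ((k : ℕ) + 1) / s * (x ^ (k : ℕ) / s)⁻¹ = x by field_simp; ring] at h2
  · right
    have hk1 : 1 ≤ (k : ℕ) := by omega
    have h2 := mul_mem (hmem ((k : ℕ) - 1) (by omega)) hinv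
    have hx0 : x ≠ 0 := fun h0 => hu0 (by rw [h0, zero_pow (by omega), zero_div])
    have e1 : x ^ ((k : ℕ) - 1) / s * (x ^ (k : ℕ) / s)⁻¹ = x⁻¹ := by
      rw [show x ^ (k : ℕ) = x ^ ((k : ℕ) - 1) * x by rw [← pow_succ]; congr 1; omega]
      field_simp
    rwa [e1] at h2

/-- A valuation ring which is a finite intersection of valuation rings is one of them. -/
theorem exists_eq_of_inter (D : ValuationSubring K) {ι : Type*} [Fintype ι] [Nonempty ι]
    (V : ι → ValuationSubring K) (hD : ∀ x, x ∈ D ↔ ∀ i, x ∈ V i) : ∃ i, V i = D := by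
  by_contra! hne
  have hex : ∀ i, ∃ x, x ∈ V i ∧ x ∉ D := fun i => by
    by_contra! hc
    exact hne i (le_antisymm hc fun x hx => (hD x).1 hx i)
  choose x hx hxD using hex
  obtain ⟨j, -, hj⟩ := Finset.exists_min_image Finset.univ (fun i => D.valuation (x i)) Finset.univ_nonempty
  refine hxD j ((hD _).2 fun i => ?_)
  have hxi : x i ≠ 0 := fun h0 => hxD i (h0 ▸ D.zero_mem)
  have hd : x j / x i ∈ D := by
    rw [← D.valuation_le_one_iff, map_div₀]
    exact div_le_one_of_le₀ (hj i (Finset.mem_univ i)) zero_le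
  have := mul_mem ((hD _).1 hd i) (hx i)
  rwa [div_mul_cancel₀ _ hxi] at this

end Groth.Agent.UnibConn
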