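import Groth.Agent.UnibConn.Points
import Groth.Agent.UnibConn.ValInter
import Mathlib.RingTheory.DiscreteValuationRing.Basic

/-!
# The Mori–Nagata theorem for Noetherian local domains
-/

universe u

namespace Groth.Agent.UnibConn

variable {A : Type u} [CommRing A] [IsDomain A] [IsNoetherianRing A] [IsLocalRing A]
  {K : Type u} [Field K] [Algebra A K] [IsFractionRing A K]

local notation "R'" => AdicCompletion (IsLocalRing.maximalIdeal A) A

theorem thetaQ_algebraMap (π : Pt A) (a : A) :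
    π.θ K (algebraMap A (integralClosure A K) a) = algebraMap R' (NQ π.Q) (algebraMap A R' a) := by
  refine Subtype.ext ?_
  rw [coe_thetaQ]
  refine (AlgHom.commutes _ _).trans ?_
  exact IsScalarTower.algebraMap_apply A R' (FQ π.Q) a

theorem Pt.pos_of_centre_eq_bot {π : Pt A} (h : π.centre = ⊥) (x : K) : π.Pos K x := by
  obtain ⟨r, a, ha, rfl⟩ := IsFractionRing.div_surjective A x
  have haK : algebraMap A K (a : A) ≠ 0 := fun h0 =>
    nonZeroDivisors.ne_zero ha (IsFractionRing.injective A K (h0.trans (map_zero _).symm))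
  refine Pt.pos_of_mul (algebraMap A (integralClosure A K) a) (fun hm => ?_) ?_
  · rw [thetaQ_algebraMap] at hm
    have : (a : A) ∈ π.centre := hm
    rw [h] at this
    exact nonZeroDivisors.ne_zero ha this
  · show π.Pos K (algebraMap A K a * (algebraMap A K r / algebraMap A K a))
    rw [mul_div_cancel₀ _ haK]
    exact π.pos_of_isIntegral isIntegral_algebraMap

variable (K) in
/-- The valuation ring of a point. -/
noncomputable def Pt.valSubring (π : Pt A) : ValuationSubring K where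
  carrier := {x | π.Pos K x}
  mul_mem' := Pt.pos_mul
  one_mem' := π.pos_of_isIntegral isIntegral_one
  add_mem' := Pt.pos_add
  zero_mem' := π.pos_of_isIntegral isIntegral_zero
  neg_mem' := Pt.pos_neg
  mem_or_inv_mem' := π.pos_or_pos_inv

theorem Pt.mem_valSubring {π : Pt A} {x : K} : x ∈ π.valSubring K ↔ π.Pos K x := Iff.rfl

theorem Pt.isDiscreteValuationRing_valSubring (π : Pt A) (s : integralClosure A K)
    (hs : π.θ K s ∈ π.P) (hs0 : (s : K) ≠ 0) : IsDiscreteValuationRing (π.valSubring K) := by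
  classical
  let V := π.valSubring K
  obtain ⟨ϖ, hϖ, hϖ0, -, hord⟩ := π.exists_order
  let Ord : V → ℕ → Prop := fun y m => ∃ u v : NQ π.Q, u ∉ π.P ∧ v ∉ π.P ∧
    toFQ K π.hQ (y : K) * (v : FQ π.Q) = (u : FQ π.Q) * (ϖ : FQ π.Q) ^ m
  have hinj : ∀ y : K, y ≠ 0 → toFQ K π.hQ y ≠ 0 := fun y hy h0 =>
    hy ((toFQ K π.hQ).toRingHom.injective (h0.trans (map_zero _).symm))
  have hex : ∀ y : V, y ≠ 0 → ∃ m, Ord y m := by
    rintro ⟨y, hy⟩ hy0
    obtain ⟨n, t, ht, hnt⟩ := Pt.mem_valSubring.1 hy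
    have hn0 : n ≠ 0 := fun h0 => by
      rw [h0] at hnt
      push_cast at hnt
      rcases mul_eq_zero.1 hnt with h | h
      · exact hinj y (fun h' => hy0 (Subtype.ext h')) h
      · exact ht ((Subtype.ext h : t = 0) ▸ π.P.zero_mem)
    obtain ⟨m, a, b, ha, hb, hab⟩ := hord n hn0
    refine ⟨m, b, a * t, hb, fun h => (Ideal.IsPrime.mem_or_mem inferInstance h).elim ha ht, ?_⟩
    have := congrArg Subtype.val hab
    push_cast at this ⊢
    rw [← this, ← hnt]
    ring
  have hPID : IsPrincipalIdealRing V := ⟨fun J => ⟨by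
    by_cases hJ : J = ⊥
    · exact ⟨0, by rw [hJ]; simp⟩
    obtain ⟨y₁, hy₁, hy₁0⟩ := Submodule.exists_mem_ne_zero_of_ne_bot hJ
    have hE : ∃ m, ∃ y ∈ J, y ≠ 0 ∧ Ord y m := by
      obtain ⟨m, hm⟩ := hex y₁ hy₁0
      exact ⟨m, y₁, hy₁, hy₁0, hm⟩
    obtain ⟨y, hy, hy0, u, v, hu, hv, huv⟩ := Nat.find_spec hE
    refine ⟨y, le_antisymm (fun z hz => ?_) ((Submodule.span_singleton_le_iff_mem _ _).2 hy)⟩
    by_cases hz0 : z = 0
    · rw [hz0]; exact Submodule.zero_mem _
    obtain ⟨m, hm⟩ := hex z hz0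
    have hle : Nat.find hE ≤ m := Nat.find_min' hE ⟨z, hz, hz0, hm⟩
    obtain ⟨u', v', hu', hv', huv'⟩ := hm
    have hyK : (y : K) ≠ 0 := fun h0 => hy0 (Subtype.ext h0)
    have hpos : π.Pos K ((z : K) / (y : K)) := by
      refine ⟨u' * v * ϖ ^ (m - Nat.find hE), v' * u,
        fun h => (Ideal.IsPrime.mem_or_mem inferInstance h).elim hv' hu, ?_⟩
      have hF := hinj _ hyK
      have hvF : (v : FQ π.Q) ≠ 0 := fun h0 => hv ((Subtype.ext h0 : v = 0) ▸ π.P.zero_mem)
      push_cast
      rw [map_div₀]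
      field_simp
      refine mul_right_cancel₀ (pow_ne_zero (Nat.find hE) (fun h0 => hϖ0 (Subtype.ext h0) : (ϖ : FQ π.Q) ≠ 0)) ?_
      have e : (ϖ : FQ π.Q) ^ (m - Nat.find hE) * (ϖ : FQ π.Q) ^ Nat.find hE = (ϖ : FQ π.Q) ^ m := by
        rw [← pow_add, Nat.sub_add_cancel hle]
      calc toFQ K π.hQ (z : K) * (v' : FQ π.Q) * (u : FQ π.Q) * (ϖ : FQ π.Q) ^ Nat.find hE
          = (toFQ K π.hQ (z : K) * (v' : FQ π.Q)) * ((u : FQ π.Q) * (ϖ : FQ π.Q) ^ Nat.find hE) := by ring
        _ = ((u' : FQ π.Q) * (ϖ : FQ π.Q) ^ m) * (toFQ K π.hQ (y : K) * (v : FQ π.Q)) := by rw [huv', huv]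
        _ = _ := by rw [← e]; ring
    exact Submodule.mem_span_singleton.2 ⟨⟨_, hpos⟩, Subtype.ext (div_mul_cancel₀ _ hyK)⟩⟩⟩
  refine { toIsPrincipalIdealRing := hPID, not_a_field' := fun hbot => ?_ }
  let s' : V := ⟨(s : K), π.pos_of_mem s⟩
  have hs' : s' ∈ IsLocalRing.maximalIdeal V := by
    rw [IsLocalRing.mem_maximalIdeal, mem_nonunits_iff]
    rintro ⟨w, hw⟩
    refine Pt.not_pos_inv s hs hs0 ?_
    have h2 : ((s' : V) : K) * ((w⁻¹ : Vˣ) : V) = 1 := by
      rw [← hw]; exact congrArg Subtype.val w.mul_inv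
    rw [show (s : K)⁻¹ = ((w⁻¹ : Vˣ) : V) from inv_eq_of_mul_eq_one_right h2]
    exact ((w⁻¹ : Vˣ) : V).2
  rw [hbot] at hs'
  exact hs0 (congrArg Subtype.val ((Submodule.mem_bot _).1 hs'))

/-- A finite subalgebra inside the normalisation. -/
noncomputable abbrev inclNorm (C : Subalgebra A K) (hle : C ≤ integralClosure A K) : C →+* integralClosure A K :=
  (Subalgebra.inclusion hle).toRingHom

variable (C : Subalgebra A K) (hle : C ≤ integralClosure A K)

/-- The centre of a point on a finite subalgebra. -/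
noncomputable abbrev cC (π : Pt A) : Ideal C := π.P.comap ((π.θ K).comp (inclNorm C hle))

theorem comap_cC (π : Pt A) : (cC C hle π).comap (algebraMap A C) = π.centre := by
  refine Ideal.ext fun a => ?_
  show π.θ K (inclNorm C hle (algebraMap A C a)) ∈ π.P ↔ _
  rw [show inclNorm C hle (algebraMap A C a) = algebraMap A (integralClosure A K) a from rfl, thetaQ_algebraMap]
  exact Iff.rfl

/-- `x` is integral up to a factor prime to `p`. -/
def Dp (p : Ideal C) (x : K) : Prop := ∃ s : C, s ∉ p ∧ IsIntegral A ((s : K) * x)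

theorem pos_of_Dp {p : Ideal C} {π : Pt A} (hπ : cC C hle π ≤ p) {x : K} (hx : Dp C p x) : π.Pos K x := by
  obtain ⟨s, hs, hsx⟩ := hx
  exact Pt.pos_of_mul (inclNorm C hle s) (fun h => hs (hπ h)) (π.pos_of_isIntegral hsx)

include hle in
/-- Multiplying by a suitable element prime to `p` leaves only poles centred inside `p`. -/
theorem exists_clear (p : Ideal C) [p.IsPrime] (x : K) :
    ∃ s : C, s ∉ p ∧ ∀ π : Pt A, ¬ π.Pos K ((s : K) * x) → ¬ π.Pos K x ∧ cC C hle π ≤ p := by
  classical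
  let Z := (finite_not_pos (A := A) x).toFinset.filter fun π => ¬ cC C hle π ≤ p
  have hsel : ∀ π : Pt A, ¬ cC C hle π ≤ p → ∃ s : C, s ∈ cC C hle π ∧ s ∉ p := fun π h =>
    SetLike.not_le_iff_exists.1 h
  choose sel hsel1 hsel2 using hsel
  have hk : ∀ (π : Pt A) (h : ¬ cC C hle π ≤ p),
      ∃ k : ℕ, ∀ k' ≥ k, π.Pos K (((sel π h : C) : K) ^ k' * x) := fun π h =>
    π.exists_pow_pos (inclNorm C hle (sel π h)) (hsel1 π h) x
  choose k hk using hk
  let f : Pt A → C := fun π => if h : ¬ cC C hle π ≤ p then sel π h ^ k π h else 1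
  have hf : ∀ π, f π ∉ p := fun π => by
    simp only [f]
    split_ifs with h
    · exact p.one_notMem
    · exact fun hm => hsel2 π h (Ideal.IsPrime.mem_of_pow_mem inferInstance _ hm)
  refine ⟨∏ π ∈ Z, f π, fun hm => ?_, fun π hπ => ?_⟩
  · obtain ⟨π, -, hπ⟩ := (‹p.IsPrime›.prod_mem_iff).1 hm
    exact hf π hπ
  · have h1 : ¬ π.Pos K x := fun h => hπ (Pt.pos_mul (π.pos_of_isIntegral (hle (∏ π ∈ Z, f π).2)) h)
    refine ⟨h1, ?_⟩
    by_contra hn
    refine hπ ?_
    have hmem : π ∈ Z := Finset.mem_filter.2 ⟨(Set.Finite.mem_toFinset _).2 h1, hn⟩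
    rw [← Finset.mul_prod_erase Z f hmem]
    push_cast
    rw [mul_comm (f π : K), mul_assoc]
    refine Pt.pos_mul ?_ ?_
    · have := (∏ ρ ∈ Z.erase π, f ρ).2
      have h2 := π.pos_of_isIntegral (hle this)
      simpa using h2
    · have e : (f π : K) = ((sel π hn : C) : K) ^ k π hn := by
        simp only [f, dif_pos hn]
        push_cast
        rfl
      rw [e]
      exact hk π hn _ le_rfl

theorem centre_cC_ne_bot {π : Pt A} {x : K} (h : ¬ π.Pos K x) : cC C hle π ≠ ⊥ := fun h0 =>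
  h (Pt.pos_of_centre_eq_bot (by
    rw [← comap_cC C hle π, h0, ← RingHom.ker_eq_comap_bot, RingHom.ker_eq_bot_iff_eq_zero]
    exact fun a ha => IsFractionRing.injective A K ((congrArg Subtype.val ha).trans (map_zero _).symm)) x)

theorem eq_of_height_one {p q : Ideal C} [p.IsPrime] [q.IsPrime] (hp : p.height = 1) (hle : q ≤ p) (hq : q ≠ ⊥) :
    q = p := by
  by_contra hne
  have hlt : q < p := lt_of_le_of_ne hle hne
  haveI : q.FiniteHeight := ⟨Or.inr (ne_top_of_le_ne_top ENat.one_ne_top ((Ideal.height_mono hle).trans hp.le))⟩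
  have h1 := Ideal.height_strict_mono_of_isPrime hlt
  rw [hp, Order.lt_one_iff, Ideal.height_eq_zero_iff, IsDomain.minimalPrimes_eq_singleton_bot] at h1
  exact hq h1

theorem Dp_iff {p : Ideal C} [p.IsPrime] (hp : p.height = 1) (x : K) :
    Dp C p x ↔ ∀ π : Pt A, cC C hle π = p → π.Pos K x := by
  refine ⟨fun h π hπ => pos_of_Dp C hle hπ.le h, fun h => ?_⟩
  obtain ⟨s, hs, hpoles⟩ := exists_clear C hle p x
  refine ⟨s, hs, (isIntegral_iff_forall_pos _).2 fun π => by_contra fun hn => ?_⟩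
  obtain ⟨h1, h2⟩ := hpoles π hn
  haveI : (cC C hle π).IsPrime := Ideal.comap_isPrime _ _
  exact h1 (h π (eq_of_height_one C hp h2 (centre_cC_ne_bot C hle h1)))

include hle in
theorem exists_prime_over [Algebra C (integralClosure A K)]
    (halg : algebraMap C (integralClosure A K) = inclNorm C hle) (p : Ideal C) [p.IsPrime] :
    ∃ M : Ideal (integralClosure A K), M.IsPrime ∧ M.comap (algebraMap C _) = p := by
  haveI : IsScalarTower A C (integralClosure A K) := IsScalarTower.of_algebraMap_eq fun a => by rw [halg]; rfl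
  haveI : Algebra.IsIntegral C (integralClosure A K) :=
    ⟨fun x => IsIntegral.tower_top (R := A) (Algebra.IsIntegral.isIntegral x)⟩
  obtain ⟨M, -, hM, hMp⟩ := Ideal.exists_ideal_over_prime_of_isIntegral (S := integralClosure A K) p ⊥ (fun c hc => by
    have : inclNorm C hle c = 0 := by rw [← halg]; exact Ideal.mem_bot.1 (Ideal.mem_comap.1 hc)
    rw [show c = 0 from Subalgebra.inclusion_injective hle (this.trans (map_zero _).symm)]
    exact p.zero_mem)
  exact ⟨M, hM, hMp⟩

include hle in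
theorem exists_centred [Algebra C (integralClosure A K)]
    (halg : algebraMap C (integralClosure A K) = inclNorm C hle) (p : Ideal C) [p.IsPrime] (hp : p.height = 1) :
    ∃ π : Pt A, cC C hle π = p := by
  by_contra! hno
  obtain ⟨c, hc, hc0⟩ := Submodule.exists_mem_ne_zero_of_ne_bot (p := p) (fun h => by subst h; simp at hp)
  have hcK : (c : K) ≠ 0 := fun h => hc0 (Subtype.ext h)
  obtain ⟨s, hs, hsx⟩ := (Dp_iff C hle hp ((c : K)⁻¹)).2 fun π hπ => absurd hπ (hno π)
  obtain ⟨M, hM, hMp⟩ := exists_prime_over C hle halg p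
  refine hs (hMp.le ?_)
  have e : inclNorm C hle s = inclNorm C hle c * ⟨_, hsx⟩ := Subtype.ext (by
    show (s : K) = (c : K) * ((s : K) * (c : K)⁻¹)
    field_simp)
  rw [Ideal.mem_comap, halg, e]
  refine Ideal.mul_mem_right _ _ ?_
  have := hMp.ge hc
  rwa [Ideal.mem_comap, halg] at this

variable (A K) in
/-- A finite subalgebra separating the primes of the normalisation over the bad centres. -/
theorem exists_separating :
    ∃ C : Subalgebra A K, Module.Finite A C ∧ ∃ hle : C ≤ integralClosure A K,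
      ∀ M₁ M₂ : Ideal (integralClosure A K), M₁.IsPrime → M₂.IsPrime →
        (∃ π : Pt A, π.Bad ∧ M₁.comap (algebraMap A (integralClosure A K)) = π.centre) →
        M₁.comap (inclNorm C hle) = M₂.comap (inclNorm C hle) → M₁ = M₂ := by
  classical
  let S : Set (Ideal (integralClosure A K)) :=
    ⋃ π ∈ {π : Pt A | π.Bad}, {M | M.IsPrime ∧ M.comap (algebraMap A (integralClosure A K)) = π.centre}
  have hSfin : S.Finite := (finite_bad (A := A)).biUnion fun π _ => by
    haveI : π.centreHat.IsPrime := Ideal.comap_isPrime _ _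
    haveI : π.centre.IsPrime := Ideal.comap_isPrime _ _
    exact finite_primes_over A K (integralClosure A K) π.centre
  let pick : Ideal (integralClosure A K) × Ideal (integralClosure A K) → K := fun P =>
    if h : ∃ y, y ∈ P.1 ∧ y ∉ P.2 then ((h.choose : integralClosure A K) : K) else 0
  have hpick : ∀ P, pick P ∈ integralClosure A K := fun P => by
    simp only [pick]
    split_ifs with h
    · exact h.choose.2
    · exact zero_mem _
  let G : Set K := pick '' (S ×ˢ S)
  have hG : G.Finite := (hSfin.prod hSfin).image _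
  let C := Algebra.adjoin A G
  have hle : C ≤ integralClosure A K := Algebra.adjoin_le fun y ⟨P, _, hy⟩ => hy ▸ hpick P
  refine ⟨C, Module.Finite.of_fg (fg_adjoin_of_finite hG fun y ⟨P, _, hy⟩ => hy ▸ hpick P), hle,
    fun M₁ M₂ h₁ h₂ ⟨π, hπ, hM⟩ he => ?_⟩
  have hM₂ : M₂.comap (algebraMap A (integralClosure A K)) = π.centre := by
    rw [← hM]
    have := congrArg (Ideal.comap (algebraMap A C)) he
    rw [Ideal.comap_comap, Ideal.comap_comap] at this
    exact this.symm
  have hsub : ∀ P Q : Ideal (integralClosure A K), P ∈ S → Q ∈ S →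
      P.comap (inclNorm C hle) = Q.comap (inclNorm C hle) → P ≤ Q := by
    intro P Q hP hQ hPQ
    by_contra hn
    have h : ∃ y, y ∈ P ∧ y ∉ Q := SetLike.not_le_iff_exists.1 hn
    have hmem : pick (P, Q) ∈ C := Algebra.subset_adjoin ⟨(P, Q), ⟨hP, hQ⟩, rfl⟩
    have e : inclNorm C hle ⟨_, hmem⟩ = h.choose := Subtype.ext (by
      show pick (P, Q) = _
      simp only [pick, dif_pos h])
    have h1 : (⟨_, hmem⟩ : C) ∈ P.comap (inclNorm C hle) := by
      rw [Ideal.mem_comap, e]; exact h.choose_spec.1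
    rw [hPQ, Ideal.mem_comap, e] at h1
    exact h.choose_spec.2 h1
  have hS₁ : M₁ ∈ S := Set.mem_biUnion hπ ⟨h₁, hM⟩
  have hS₂ : M₂ ∈ S := Set.mem_biUnion hπ ⟨h₂, hM₂⟩
  exact le_antisymm (hsub _ _ hS₁ hS₂ he) (hsub _ _ hS₂ hS₁ he.symm)

end Groth.Agent.UnibConn
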