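import Groth.Agent.UnibConn.Connected
import Groth.Agent.Hensel.IntegralStrict
import Groth.Agent.CILib.Basic
import Groth.Agent.BrnchLib.Compl
import Groth.Agent.VarDim.Basic

/-!
# Sections over the punctured spectrum of a geometrically unibranch domain of dimension at least 2
-/

universe u

open TensorProduct

namespace Groth.Agent.UnibConn

section Colon

variable {A : Type u} [CommRing A] [IsNoetherianRing A] {B : Type u} [CommRing B] [Algebra A B]
  [Module.Flat A B]

/-- The colon ideal `(a : I)` commutes with flat base change. -/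
theorem exists_colon_repr (I : Ideal A) (a : A) {x : B}
    (hx : ∀ i ∈ I, algebraMap A B i * x ∈ Ideal.span {algebraMap A B a}) :
    ∃ (ι : Type u) (_ : Fintype ι) (r : ι → A) (c : ι → B),
      x = ∑ l, r l • c l ∧ ∀ l, ∀ i ∈ I, i * r l ∈ Ideal.span {a} := by
  classical
  obtain ⟨G, hG⟩ := IsNoetherian.noetherian I
  let J : Ideal A := Ideal.span {a}
  let ψ : A →ₗ[A] ({g // g ∈ G} → A ⧸ J) :=
    LinearMap.pi fun g => (LinearMap.lsmul A (A ⧸ J) g.1) ∘ₗ J.mkQ
  have hx' : LinearMap.lTensor B ψ (x ⊗ₜ[A] (1 : A)) = 0 := by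
    refine (TensorProduct.piRight A A B fun _ : {g // g ∈ G} => A ⧸ J).injective ?_
    rw [map_zero, LinearMap.lTensor_tmul, TensorProduct.piRight_apply,
      TensorProduct.piRightHom_tmul]
    funext g
    show x ⊗ₜ[A] (g.1 • J.mkQ (1 : A)) = 0
    obtain ⟨z, hz⟩ := Ideal.mem_span_singleton'.1 (hx g.1 (hG ▸ Ideal.subset_span g.2))
    rw [← TensorProduct.smul_tmul, Algebra.smul_def, ← hz, mul_comm, ← Algebra.smul_def,
      TensorProduct.smul_tmul, ← map_smul, smul_eq_mul, mul_one, Submodule.mkQ_apply,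
      (Submodule.Quotient.mk_eq_zero J).2 (Ideal.mem_span_singleton_self a), TensorProduct.tmul_zero]
  obtain ⟨z, hz⟩ := ((Module.Flat.lTensor_exact B (LinearMap.exact_subtype_ker_map ψ)) _).1 hx'
  obtain ⟨ι, hι, r, c, hrc, hW⟩ := exists_repr (LinearMap.ker ψ) z
  rw [hz, TensorProduct.rid_tmul, one_smul] at hrc
  refine ⟨ι, hι, r, c, hrc, fun l i hi => ?_⟩
  rw [← hG] at hi
  refine Submodule.span_induction ?_ ?_ ?_ ?_ hi
  · intro g hg
    have h2 : g • J.mkQ (r l) = 0 := congrFun (LinearMap.mem_ker.1 (hW l)) ⟨g, hg⟩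
    rw [← map_smul, Submodule.mkQ_apply, Submodule.Quotient.mk_eq_zero] at h2
    exact h2
  · simp
  · intro u v _ _ hu hv
    rw [add_mul]; exact add_mem hu hv
  · intro s u _ hu
    rw [smul_eq_mul, mul_assoc]; exact Ideal.mul_mem_left _ _ hu

/-- The colon ideal `(J : i)` commutes with flat base change. -/
theorem exists_colon_ideal_repr (i : A) (J : Ideal A) {x : B}
    (hx : x * algebraMap A B i ∈ J.map (algebraMap A B)) :
    ∃ (ι : Type u) (_ : Fintype ι) (r : ι → A) (c : ι → B),
      x = ∑ l, r l • c l ∧ ∀ l, r l * i ∈ J := by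
  classical
  let ψ : A →ₗ[A] A ⧸ J := (LinearMap.lsmul A (A ⧸ J) i) ∘ₗ J.mkQ
  have hx' : LinearMap.lTensor B ψ (x ⊗ₜ[A] (1 : A)) = 0 := by
    rw [LinearMap.lTensor_tmul]
    show x ⊗ₜ[A] (i • J.mkQ (1 : A)) = 0
    rw [← TensorProduct.smul_tmul, Algebra.smul_def, mul_comm]
    have key : ∀ b ∈ J.map (algebraMap A B), b ⊗ₜ[A] J.mkQ (1 : A) = 0 := by
      intro b hb
      refine Submodule.span_induction ?_ ?_ ?_ ?_ hb
      · rintro _ ⟨j, hj, rfl⟩
        rw [Algebra.algebraMap_eq_smul_one, TensorProduct.smul_tmul, ← map_smul, smul_eq_mul, mul_one,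
          Submodule.mkQ_apply, (Submodule.Quotient.mk_eq_zero J).2 hj, TensorProduct.tmul_zero]
      · rw [TensorProduct.zero_tmul]
      · intro u v _ _ hu hv
        rw [TensorProduct.add_tmul, hu, hv, add_zero]
      · intro c u _ hu
        have := congrArg (TensorProduct.map (LinearMap.mulLeft A c) LinearMap.id) hu
        rw [map_zero, TensorProduct.map_tmul] at this
        exact this
    exact key _ hx
  obtain ⟨z, hz⟩ := ((Module.Flat.lTensor_exact B (LinearMap.exact_subtype_ker_map ψ)) _).1 hx'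
  obtain ⟨ι, hι, r, c, hrc, hW⟩ := exists_repr (LinearMap.ker ψ) z
  rw [hz, TensorProduct.rid_tmul, one_smul] at hrc
  refine ⟨ι, hι, r, c, hrc, fun l => ?_⟩
  have h2 : i • J.mkQ (r l) = 0 := hW l
  rw [← map_smul, Submodule.mkQ_apply, Submodule.Quotient.mk_eq_zero, smul_eq_mul, mul_comm] at h2
  exact h2

end Colon

/-- Principal ideals of a normal Noetherian local domain of dimension `≥ 2` are saturated. -/
theorem mem_span_of_pow_mul {N : Type u} [CommRing N] [IsDomain N] [IsNoetherianRing N]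
    [IsIntegrallyClosed N] [IsLocalRing N] (S : Set N) {a x : N} (ha : a ≠ 0)
    (hdim : ¬ ringKrullDim N ≤ 1) (k : ℕ)
    (hS : ∀ P : Ideal N, P.IsPrime → S ⊆ P → P.IsMaximal)
    (h : ∀ s ∈ S, s ^ k * x ∈ Ideal.span {a}) : x ∈ Ideal.span {a} := by
  by_contra hn
  let I : Ideal N := Ideal.span {a}
  have hx : Ideal.Quotient.mk I x ≠ 0 := fun h0 => hn (Ideal.Quotient.eq_zero_iff_mem.1 h0)
  obtain ⟨P, hP, hPle⟩ := exists_le_isAssociatedPrime_of_isNoetherianRing N _ hx
  haveI : P.IsPrime := hP.isPrime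
  have hPh := S14359.result N a ha P hP
  have hmax : P.IsMaximal := hS P inferInstance fun s hs => ‹P.IsPrime›.mem_of_pow_mem k (hPle (by
    rw [Submodule.mem_colon_singleton, Submodule.mem_bot, Algebra.smul_def, Ideal.Quotient.algebraMap_eq,
      ← map_mul, Ideal.Quotient.eq_zero_iff_mem]
    exact h s hs))
  rw [IsLocalRing.eq_maximalIdeal hmax] at hPh
  apply hdim
  rw [← IsLocalRing.maximalIdeal_height_eq_ringKrullDim, hPh]
  rfl

variable {A : Type u} [CommRing A] [IsDomain A] [IsNoetherianRing A] [IsLocalRing A]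
  (K : Type u) [Field K] [Algebra A K] [IsFractionRing A K]

local notation "R'" => AdicCompletion (IsLocalRing.maximalIdeal A) A

theorem isNoetherianRing_completion : IsNoetherianRing R' :=
  S0542.result A _ (IsNoetherian.noetherian _)

theorem algebraMap_notMem_minimalPrimes {a : A} (ha : a ≠ 0) {Q : Ideal R'}
    (hQ : Q ∈ minimalPrimes R') : algebraMap A R' a ∉ Q := by
  intro hmem
  have h1 : IsSMulRegular R' (algebraMap A R' a) :=
    IsSMulRegular.of_flat (fun x y hxy => mul_left_cancel₀ ha hxy)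
  have h2 : algebraMap A R' a ∈ nonZeroDivisors R' :=
    mem_nonZeroDivisors_iff_right.2 fun x hx => h1 (by
      show algebraMap A R' a * x = algebraMap A R' a * 0
      rw [mul_zero, mul_comm, hx])
  exact Set.disjoint_left.1 (Ideal.disjoint_nonZeroDivisors_of_mem_minimalPrimes hQ) hmem h2

/-- A relation `r / a` integral at every minimal prime of the completion gives integrality. -/
theorem isIntegral_of_pred {a r : A} (ha : a ≠ 0)
    (h : ∀ Q ∈ minimalPrimes R', Pred (algebraMap A R' a) (algebraMap A R' r) Q) :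
    IsIntegral A (algebraMap A K r / algebraMap A K a) := by
  classical
  haveI := isNoetherianRing_completion (A := A)
  haveI : Module.FaithfullyFlat A R' := Module.FaithfullyFlat.of_flat_of_isLocalHom
  have hfinT := minimalPrimes.finite_of_isNoetherianRing R'
  obtain ⟨m, hm⟩ := Ideal.exists_maximal R'
  haveI := hm.isPrime
  obtain ⟨Q₀, hQ₀, -⟩ := Ideal.exists_minimalPrimes_le (I := (⊥ : Ideal R')) (J := m) bot_le
  obtain ⟨k, hk⟩ := IsNoetherianRing.isNilpotent_nilradical R'
  have h1 := (Pred.prod hfinT.toFinset ⟨Q₀, hfinT.mem_toFinset.2 hQ₀⟩ fun Q hQ =>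
    h Q (hfinT.mem_toFinset.1 hQ)).pow (k + 1) (by omega)
  have h0 : (∏ Q ∈ hfinT.toFinset, Q) ^ (k + 1) = (⊥ : Ideal R') := by
    refine le_bot_iff.1 (le_trans (Ideal.pow_right_mono (J := nilradical R') ?_ (k + 1)) ?_)
    · rw [nilradical_eq_sInf]
      refine le_sInf fun P hP' => ?_
      haveI : P.IsPrime := hP'
      obtain ⟨Q, hQ, hQP⟩ := Ideal.exists_minimalPrimes_le (I := (⊥ : Ideal R')) (J := P) bot_le
      exact le_trans (le_trans Ideal.prod_le_inf (Finset.inf_le (hfinT.mem_toFinset.2 hQ))) hQP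
    · rw [pow_succ, hk]; simp
  obtain ⟨M, hM, hrel⟩ := h1
  rw [h0, sup_bot_eq, ← map_pow] at hrel
  refine isIntegral_div K (fun h => ha (IsFractionRing.injective A K (h.trans (map_zero _).symm))) M hM ?_
  have e : Ideal.span {algebraMap A R' a} * Ideal.span {algebraMap A R' r, algebraMap A R' a} ^ (M - 1) =
      (Ideal.span {a} * Ideal.span {r, a} ^ (M - 1)).map (algebraMap A R') := by
    rw [Ideal.map_mul, Ideal.map_pow, Ideal.map_span, Ideal.map_span, Set.image_singleton, Set.image_pair]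
  rw [e, ← Ideal.mem_comap, Ideal.comap_map_eq_self_of_faithfullyFlat] at hrel
  exact hrel

/-- The completion is approximated by the ring. -/
theorem exists_approx (α : R') (k : ℕ) :
    ∃ a₀ : A, α - algebraMap A R' a₀ ∈ ((IsLocalRing.maximalIdeal A) ^ k).map (algebraMap A R') := by
  obtain ⟨a₀, ha⟩ := Submodule.Quotient.mk_surjective _ (AdicCompletion.eval (IsLocalRing.maximalIdeal A) A k α)
  refine ⟨a₀, ?_⟩
  rw [← Submodule.restrictScalars_mem A, ← Ideal.smul_top_eq_map,
    AdicCompletion.pow_smul_top_eq_ker_eval (IsNoetherian.noetherian _), LinearMap.mem_ker, map_sub, ← ha, sub_eq_zero]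
  exact (AdicCompletion.eval_of _ _ k a₀).symm

section Components

/-- The fraction field of a formal component. -/
abbrev FQ (Q : Ideal R') [Q.IsPrime] : Type u := FractionRing (R' ⧸ Q)

/-- The normalisation of a formal component. -/
abbrev NQ (Q : Ideal R') [Q.IsPrime] : Type u := integralClosure (R' ⧸ Q) (FQ Q)

theorem injective_toFQ {Q : Ideal R'} [Q.IsPrime] (hQ : Q ∈ minimalPrimes R') :
    Function.Injective (Algebra.ofId A (FQ Q)) := (injective_iff_map_eq_zero _).2 fun a ha => by
  by_contra ha0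
  have ha' : algebraMap A (FQ Q) a = 0 := ha
  rw [IsScalarTower.algebraMap_apply A (R' ⧸ Q) (FQ Q)] at ha'
  exact algebraMap_notMem_minimalPrimes ha0 hQ (Ideal.Quotient.eq_zero_iff_mem.1
    (IsFractionRing.injective (R' ⧸ Q) (FQ Q) (ha'.trans (map_zero _).symm)))

/-- The embedding of the fraction field in that of a formal component. -/
noncomputable def toFQ {Q : Ideal R'} [Q.IsPrime] (hQ : Q ∈ minimalPrimes R') : K →ₐ[A] FQ Q :=
  IsFractionRing.liftAlgHom (g := Algebra.ofId A (FQ Q)) (injective_toFQ hQ)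

theorem isIntegral_toFQ {Q : Ideal R'} [Q.IsPrime] (hQ : Q ∈ minimalPrimes R') {x : K}
    (hx : IsIntegral A x) : IsIntegral (R' ⧸ Q) (toFQ K hQ x) :=
  IsIntegral.tower_top (R := A) (hx.map (toFQ K hQ))

/-- An element of the fraction field integral on every formal component is integral. -/
theorem isIntegral_of_forall_toFQ {x : K}
    (h : ∀ (Q : Ideal R') (_ : Q.IsPrime) (hQ : Q ∈ minimalPrimes R'), IsIntegral (R' ⧸ Q) (toFQ K hQ x)) :
    IsIntegral A x := by
  obtain ⟨r, a, ha, rfl⟩ := IsFractionRing.div_surjective A x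
  have ha0 : (a : A) ≠ 0 := nonZeroDivisors.ne_zero ha
  refine isIntegral_of_pred K ha0 fun Q hQ => ?_
  haveI : Q.IsPrime := hQ.1.1
  refine pred_of_isIntegral Q (FQ Q) (h Q inferInstance hQ) ?_
  rw [map_div₀, AlgHom.commutes, AlgHom.commutes, ← Ideal.Quotient.algebraMap_eq,
    ← IsScalarTower.algebraMap_apply, ← IsScalarTower.algebraMap_apply, ← IsScalarTower.algebraMap_apply,
    ← IsScalarTower.algebraMap_apply]
  exact (mul_div_cancel₀ _ fun h0 => ha0 (injective_toFQ hQ
    (show Algebra.ofId A (FQ Q) a = Algebra.ofId A (FQ Q) 0 by rw [map_zero]; exact h0))).symm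

theorem finite_NQ (Q : Ideal R') [Q.IsPrime] : Module.Finite (R' ⧸ Q) (NQ Q) :=
  haveI := isNoetherianRing_completion (A := A)
  (CompleteNagata.isNagata_of_complete R').2 Q (FQ Q) inferInstance

theorem isNoetherianRing_NQ (Q : Ideal R') [Q.IsPrime] : IsNoetherianRing (NQ Q) :=
  haveI := isNoetherianRing_completion (A := A)
  haveI := finite_NQ (A := A) Q
  IsNoetherianRing.of_finite (R' ⧸ Q) (NQ Q)

theorem isIntegrallyClosed_NQ (Q : Ideal R') [Q.IsPrime] : IsIntegrallyClosed (NQ Q) :=
  integralClosure.isIntegrallyClosedOfFiniteExtension (FractionRing (R' ⧸ Q))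

theorem isLocalRing_NQ (Q : Ideal R') [Q.IsPrime] : IsLocalRing (NQ Q) := by
  haveI := isNoetherianRing_completion (A := A)
  haveI : HenselianLocalRing R' := BrnchLib.henselianLocalRing_completion A
  haveI := finite_NQ (A := A) Q
  haveI : Module.Finite R' (NQ Q) := Module.Finite.trans (R' ⧸ Q) (NQ Q)
  exact Hensel.isLocalRing_of_isIntegral_domain R' (NQ Q)

end Components

/-- A unibranch domain of dimension `≥ 2` has no one-dimensional formal component. -/
theorem not_dim_le_one
    (hloc : IsLocalRing (integralClosure A K))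
    (hdim : 2 ≤ ringKrullDim A) {Q : Ideal R'} (hQ : Q ∈ minimalPrimes R')
    (hle : ringKrullDim (R' ⧸ Q) ≤ 1) : False := by
  classical
  haveI := isNoetherianRing_completion (A := A)
  haveI : Module.FaithfullyFlat A R' := Module.FaithfullyFlat.of_flat_of_isLocalHom
  haveI : Q.IsPrime := hQ.1.1
  haveI : Ring.KrullDimLE 1 (R' ⧸ Q) := ⟨hle⟩
  have hfinT := minimalPrimes.finite_of_isNoetherianRing R'
  let J : Ideal R' := ∏ P ∈ hfinT.toFinset.erase Q, P
  have hmin : ∀ P : Ideal R', P.IsPrime → ∃ Q' ∈ minimalPrimes R', Q' ≤ P := fun P hP => by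
    haveI := hP
    exact Ideal.exists_minimalPrimes_le (I := (⊥ : Ideal R')) (J := P) bot_le
  obtain ⟨Q₁, hQ₁, hne⟩ : ∃ Q₁ ∈ minimalPrimes R', Q₁ ≠ Q := by
    by_contra! hall
    have hz : PrimeSpectrum.zeroLocus (Q : Set R') = Set.univ := Set.eq_univ_of_forall fun P => by
      obtain ⟨Q', hQ', hle'⟩ := hmin P.asIdeal P.2
      exact (hall Q' hQ' ▸ hle')
    have h1 : ringKrullDim R' ≤ ringKrullDim (R' ⧸ Q) := by
      rw [ringKrullDim_quotient, hz, ringKrullDim]
      exact (Order.krullDim_eq_of_orderIso OrderIso.Set.univ).ge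
    rw [CILib.ringKrullDim_adicCompletion] at h1
    exact absurd ((hdim.trans h1).trans hle) (by decide)
  obtain ⟨n, hn⟩ := IsNoetherianRing.isNilpotent_nilradical R'
  have hQJ : Q * J ≤ nilradical R' := by
    rw [nilradical_eq_sInf]
    refine le_sInf fun P hP => ?_
    haveI : P.IsPrime := hP
    obtain ⟨Q', hQ', hle'⟩ := hmin P ‹_›
    by_cases h : Q' = Q
    · exact le_trans Ideal.mul_le_left ((le_of_eq h.symm).trans hle')
    · exact le_trans Ideal.mul_le_right (le_trans Ideal.prod_le_inf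
        (le_trans (Finset.inf_le (f := id) (Finset.mem_erase.2 ⟨h, hfinT.mem_toFinset.2 hQ'⟩)) hle'))
  let I₁ : Ideal R' := Q ^ (n + 1)
  let I₂ : Ideal R' := J ^ (n + 1)
  have h12 : I₁ * I₂ ≤ (⊥ : Ideal R') := by
    rw [← mul_pow]
    refine le_trans (Ideal.pow_right_mono hQJ (n + 1)) ?_
    rw [pow_succ, hn]; simp
  have hrad : IsLocalRing.maximalIdeal R' ≤ (I₁ ⊔ I₂).radical := by
    rw [Ideal.radical_eq_sInf]
    refine le_sInf fun P ⟨hP, hPp⟩ => ?_
    haveI := hPp
    have hQP : Q ≤ P := hPp.le_of_pow_le (le_trans le_sup_left hP)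
    have hJP : J ≤ P := hPp.le_of_pow_le (le_trans le_sup_right hP)
    obtain ⟨Q', hQ', hle'⟩ := hPp.prod_le.1 hJP
    obtain ⟨hne', hmem'⟩ := Finset.mem_erase.1 hQ'
    have hlt : P ≠ Q := by
      rintro rfl
      exact hne' (le_antisymm hle' (hQ.2 (hfinT.mem_toFinset.1 hmem').1 hle'))
    have hPq : (P.map (Ideal.Quotient.mk Q)).IsPrime :=
      Ideal.map_isPrime_of_surjective Ideal.Quotient.mk_surjective (by rwa [Ideal.mk_ker])
    have hc : (P.map (Ideal.Quotient.mk Q)).comap (Ideal.Quotient.mk Q) = P :=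
      (Ideal.comap_map_of_surjective' _ Ideal.Quotient.mk_surjective P).trans
        (by rw [Ideal.mk_ker, sup_eq_left]; exact hQP)
    have hne0 : P.map (Ideal.Quotient.mk Q) ≠ ⊥ := fun h => hlt (by
      rw [← hc, h, ← RingHom.ker_eq_comap_bot, Ideal.mk_ker])
    haveI : (P.map (Ideal.Quotient.mk Q)).IsMaximal :=
      (Ring.krullDimLE_one_iff_of_noZeroDivisors.1 inferInstance) _ hne0 hPq
    have hPmax : P.IsMaximal := by
      rw [← hc]; exact Ideal.comap_isMaximal_of_surjective _ Ideal.Quotient.mk_surjective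
    exact (IsLocalRing.eq_maximalIdeal hPmax).ge
  obtain ⟨k, hk⟩ := Ideal.exists_pow_le_of_le_radical_of_fg hrad (IsNoetherian.noetherian _)
  have hsplit : ∀ i ∈ (IsLocalRing.maximalIdeal A) ^ k, ∃ p o, p ∈ I₁ ∧ o ∈ I₂ ∧ p + o = algebraMap A R' i := by
    intro i hi
    have : algebraMap A R' i ∈ I₁ ⊔ I₂ := hk (by
      rw [AdicCompletion.maximalIdeal_eq_map, ← Ideal.map_pow]
      exact Ideal.mem_map_of_mem _ hi)
    obtain ⟨p, hp, o, ho, he⟩ := Submodule.mem_sup.1 this
    exact ⟨p, o, hp, ho, he⟩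
  have hmne : IsLocalRing.maximalIdeal A ≠ ⊥ := fun h => by
    have hf : IsField A := IsLocalRing.isField_iff_maximalIdeal_eq.2 h
    rw [ringKrullDim_eq_zero_of_isField hf] at hdim
    exact absurd hdim (by decide)
  obtain ⟨b, hbk, hb0⟩ := Submodule.exists_mem_ne_zero_of_ne_bot (pow_ne_zero k hmne)
  obtain ⟨p, o, hp, ho, hpo⟩ := hsplit b hbk
  have hmul : ∀ u v, u ∈ I₁ → v ∈ I₂ → u * v = 0 := fun u v hu hv =>
    (Submodule.mem_bot _).1 (h12 (Ideal.mul_mem_mul hu hv))
  obtain ⟨ι, _, r, c, hoc, hr⟩ := exists_colon_repr (B := R') ((IsLocalRing.maximalIdeal A) ^ k) b (x := o) (by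
    intro i hi
    obtain ⟨p', o', hp', ho', hpo'⟩ := hsplit i hi
    refine Ideal.mem_span_singleton'.2 ⟨o', ?_⟩
    rw [← hpo, ← hpo', add_mul, mul_add, hmul p' o hp' ho, mul_comm o' p, hmul p o' hp ho'])
  choose c₀ hc₀ using fun l => exists_approx (c l) k
  let y : A := ∑ l, r l * c₀ l
  obtain ⟨w, hw⟩ : ∃ w : R', w * algebraMap A R' b = o - algebraMap A R' y := by
    refine Ideal.mem_span_singleton'.1 ?_
    rw [hoc, map_sum, ← Finset.sum_sub_distrib]
    refine Ideal.sum_mem _ fun l _ => ?_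
    rw [map_mul, Algebra.smul_def, ← mul_sub]
    have h1 : Ideal.span {algebraMap A R' (r l)} * ((IsLocalRing.maximalIdeal A) ^ k).map (algebraMap A R') ≤
        Ideal.span {algebraMap A R' b} := by
      rw [show Ideal.span {algebraMap A R' (r l)} = (Ideal.span {r l}).map (algebraMap A R') by
          rw [Ideal.map_span, Set.image_singleton],
        show Ideal.span {algebraMap A R' b} = (Ideal.span {b}).map (algebraMap A R') by
          rw [Ideal.map_span, Set.image_singleton], ← Ideal.map_mul]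
      refine Ideal.map_mono ?_
      rw [Ideal.span_singleton_mul_le_iff]
      exact fun i hi => by rw [mul_comm]; exact hr l i hi
    exact h1 (Ideal.mul_mem_mul (Ideal.mem_span_singleton_self _) (hc₀ l))
  have hyQ : algebraMap A R' y - algebraMap A R' b * (1 - w) ∈ Q := by
    have : algebraMap A R' y - algebraMap A R' b * (1 - w) = -p := by
      rw [show algebraMap A R' y = o - w * algebraMap A R' b by rw [hw]; ring, ← hpo]; ring
    rw [this]
    exact neg_mem (Ideal.pow_le_self (by omega) hp)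
  have hyQ₁ : algebraMap A R' y - algebraMap A R' b * (-w) ∈ Q₁ := by
    have : algebraMap A R' y - algebraMap A R' b * (-w) = o := by
      rw [show algebraMap A R' y = o - w * algebraMap A R' b by rw [hw]; ring]; ring
    rw [this]
    exact le_trans (Ideal.pow_le_self (by omega)) (le_trans Ideal.prod_le_inf
      (Finset.inf_le (f := id) (Finset.mem_erase.2 ⟨hne, hfinT.mem_toFinset.2 hQ₁⟩))) ho
  have hbK : algebraMap A K b ≠ 0 := fun h => hb0 (IsFractionRing.injective A K (h.trans (map_zero _).symm))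
  set g := algebraMap A K y / algebraMap A K b with hg
  have hex : ∀ P ∈ minimalPrimes R', ∃ d : R', algebraMap A R' y - algebraMap A R' b * d ∈ P := by
    intro P hP
    by_cases h : P = Q
    · exact ⟨1 - w, h ▸ hyQ⟩
    · refine ⟨-w, ?_⟩
      have : algebraMap A R' y - algebraMap A R' b * (-w) = o := by
        rw [show algebraMap A R' y = o - w * algebraMap A R' b by rw [hw]; ring]; ring
      rw [this]
      exact le_trans (Ideal.pow_le_self (by omega)) (le_trans Ideal.prod_le_inf
        (Finset.inf_le (f := id) (Finset.mem_erase.2 ⟨h, hfinT.mem_toFinset.2 hP⟩))) ho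
  have hint : IsIntegral A g := isIntegral_of_pred K hb0 fun P hP => by
    obtain ⟨d, hd⟩ := hex P hP
    refine ⟨1, le_rfl, Submodule.mem_sup.2 ⟨algebraMap A R' b * d, ?_, _, hd, by ring⟩⟩
    rw [Nat.sub_self, pow_zero, Ideal.one_eq_top, Ideal.mul_top]
    exact Ideal.mul_mem_right _ _ (Ideal.mem_span_singleton_self _)
  let g' : integralClosure A K := ⟨g, hint⟩
  let m' := IsLocalRing.maximalIdeal (integralClosure A K)
  obtain ⟨s, hs⟩ := exists_approx (-w) 1
  rw [pow_one, ← AdicCompletion.maximalIdeal_eq_map] at hs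
  let g'' : integralClosure A K := g' - algebraMap A _ s
  have key : ∀ (P : Ideal R'), P ∈ minimalPrimes R' → ∀ d : R',
      algebraMap A R' y - algebraMap A R' b * d ∈ P →
        (g'' ∈ m' ↔ d - algebraMap A R' s ∈ IsLocalRing.maximalIdeal R') := by
    intro P hP d hd
    haveI : P.IsPrime := hP.1.1
    let F := FractionRing (R' ⧸ P)
    have hinj : Function.Injective (algebraMap A F) := (injective_iff_map_eq_zero _).2 fun a ha => by
      by_contra ha0
      rw [IsScalarTower.algebraMap_apply A (R' ⧸ P) F] at ha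
      exact algebraMap_notMem_minimalPrimes ha0 hP (Ideal.Quotient.eq_zero_iff_mem.1
        (IsFractionRing.injective (R' ⧸ P) F (ha.trans (map_zero _).symm)))
    let φ : K →ₐ[A] F := IsFractionRing.liftAlgHom (g := Algebra.ofId A F) hinj
    let T : Subalgebra A F := (IsScalarTower.toAlgHom A (R' ⧸ P) F).range
    have hφg : φ g = algebraMap (R' ⧸ P) F (Ideal.Quotient.mk P d) := by
      have hbF : algebraMap A F b ≠ 0 := fun h => hb0 (hinj (h.trans (map_zero _).symm))
      rw [hg, map_div₀, AlgHom.commutes, AlgHom.commutes, div_eq_iff hbF,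
        IsScalarTower.algebraMap_apply A (R' ⧸ P) F, IsScalarTower.algebraMap_apply A (R' ⧸ P) F, ← map_mul]
      congr 1
      show Ideal.Quotient.mk P (algebraMap A R' y) = Ideal.Quotient.mk P d * Ideal.Quotient.mk P (algebraMap A R' b)
      rw [← map_mul, Ideal.Quotient.eq]
      convert hd using 1; ring
    let A₁ : Subalgebra A K := Algebra.adjoin A {g}
    have hA₁ : A₁ ≤ T.comap φ := Algebra.adjoin_le (Set.singleton_subset_iff.2 ⟨_, hφg.symm⟩)
    have hA₁' : A₁ ≤ integralClosure A K := Algebra.adjoin_le (Set.singleton_subset_iff.2 hint)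
    let eT : (R' ⧸ P) ≃ₐ[A] T := AlgEquiv.ofInjective (IsScalarTower.toAlgHom A (R' ⧸ P) F)
      (IsFractionRing.injective (R' ⧸ P) F)
    let θ : A₁ →ₐ[A] R' ⧸ P :=
      eT.symm.toAlgHom.comp ((φ.comp A₁.val).codRestrict T fun x => hA₁ x.2)
    have hθg : θ ⟨g, Algebra.subset_adjoin rfl⟩ = Ideal.Quotient.mk P d := by
      refine eT.injective ?_
      show eT (eT.symm _) = _
      rw [AlgEquiv.apply_symm_apply]
      exact Subtype.ext hφg
    haveI : IsLocalRing (R' ⧸ P) := IsLocalRing.of_surjective' (Ideal.Quotient.mk P) Ideal.Quotient.mk_surjective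
    let incl : A₁ →ₐ[A] integralClosure A K := Subalgebra.inclusion hA₁'
    letI : Algebra A₁ (integralClosure A K) := incl.toRingHom.toAlgebra
    haveI : IsScalarTower A A₁ (integralClosure A K) := IsScalarTower.of_algebraMap_eq' incl.comp_algebraMap.symm
    haveI : Algebra.IsIntegral A₁ (integralClosure A K) :=
      ⟨fun x => IsIntegral.tower_top (R := A) (Algebra.IsIntegral.isIntegral x)⟩
    haveI : Algebra.IsIntegral A A₁ := ⟨fun x => (isIntegral_algHom_iff incl (Subalgebra.inclusion_injective hA₁')).1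
      (Algebra.IsIntegral.isIntegral _)⟩
    let N₁ : Ideal A₁ := (IsLocalRing.maximalIdeal (R' ⧸ P)).comap θ.toRingHom
    haveI : N₁.IsPrime := Ideal.comap_isPrime _ _
    have hN₁max : N₁.IsMaximal := by
      refine Ideal.isMaximal_of_isIntegral_of_isMaximal_comap (R := A) _ ?_
      have : N₁.comap (algebraMap A A₁) = IsLocalRing.maximalIdeal A := by
        rw [Ideal.comap_comap, (show θ.toRingHom.comp (algebraMap A A₁) = algebraMap A (R' ⧸ P) from θ.comp_algebraMap), IsScalarTower.algebraMap_eq A R' (R' ⧸ P), ← Ideal.comap_comap]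
        rw [show (IsLocalRing.maximalIdeal (R' ⧸ P)).comap (algebraMap R' (R' ⧸ P)) = IsLocalRing.maximalIdeal R' from
          IsLocalRing.eq_maximalIdeal (Ideal.comap_isMaximal_of_surjective _ Ideal.Quotient.mk_surjective)]
        exact ((IsLocalRing.local_hom_TFAE (algebraMap A R')).out 0 4).1
          (show IsLocalHom (algebraMap A R') from inferInstance)
      rw [this]; infer_instance
    haveI := hN₁max
    obtain ⟨M, hM, hMN⟩ := Ideal.exists_ideal_over_maximal_of_isIntegral (S := integralClosure A K) N₁ (by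
      rw [(RingHom.ker_eq_bot_iff_eq_zero _).2 fun x hx => ?_]
      · exact bot_le
      · exact (Subalgebra.inclusion_injective hA₁') (hx.trans (map_zero _).symm))
    rw [IsLocalRing.eq_maximalIdeal hM] at hMN
    let z : A₁ := ⟨g, Algebra.subset_adjoin rfl⟩ - algebraMap A A₁ s
    have hcm : (IsLocalRing.maximalIdeal (R' ⧸ P)).comap (Ideal.Quotient.mk P) = IsLocalRing.maximalIdeal R' :=
      IsLocalRing.eq_maximalIdeal (Ideal.comap_isMaximal_of_surjective _ Ideal.Quotient.mk_surjective)
    have h1 : g'' ∈ m' ↔ z ∈ N₁ := by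
      rw [← hMN, Ideal.mem_comap]
      have : incl z = g'' := by rw [map_sub, AlgHom.commutes]; rfl
      exact iff_of_eq (congrArg (· ∈ m') this.symm)
    have h2 : θ z = Ideal.Quotient.mk P (d - algebraMap A R' s) := by
      rw [map_sub, hθg, AlgHom.commutes, map_sub]; rfl
    rw [h1, ← hcm, Ideal.mem_comap, Ideal.mem_comap, ← h2]
    rfl
  have h1 := key Q hQ _ hyQ
  have h2 := key Q₁ hQ₁ _ hyQ₁
  have h3 := h1.1 (h2.2 hs)
  have h4 : (1 : R') ∈ IsLocalRing.maximalIdeal R' := by
    have := Ideal.sub_mem _ h3 hs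
    rwa [show (1 - w - algebraMap A R' s) - (-w - algebraMap A R' s) = (1 : R') by ring] at this
  exact (IsLocalRing.maximalIdeal.isMaximal R').ne_top ((Ideal.eq_top_iff_one _).2 h4)

/-- A fraction defined on the punctured spectrum is integral. -/
theorem isIntegral_of_punctured
    (hloc : IsLocalRing (integralClosure A K))
    (hdim : 2 ≤ ringKrullDim A) {x : K} (k : ℕ)
    (h : ∀ i ∈ (IsLocalRing.maximalIdeal A) ^ k, IsIntegral A (algebraMap A K i * x)) :
    IsIntegral A x := by
  classical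
  haveI := isNoetherianRing_completion (A := A)
  refine isIntegral_of_forall_toFQ K fun Q _ hQ => ?_
  haveI := finite_NQ (A := A) Q
  haveI := isNoetherianRing_NQ (A := A) Q
  haveI := isIntegrallyClosed_NQ (A := A) Q
  haveI := isLocalRing_NQ (A := A) Q
  haveI : Module.Finite R' (NQ Q) := Module.Finite.trans (R' ⧸ Q) (NQ Q)
  have hdimN : ¬ ringKrullDim (NQ Q) ≤ 1 := by
    haveI : FaithfulSMul (R' ⧸ Q) (NQ Q) := (faithfulSMul_iff_algebraMap_injective _ _).2 fun x x' hxx' =>
      IsFractionRing.injective (R' ⧸ Q) (FQ Q) (congrArg Subtype.val hxx')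
    rw [VarDim.ringKrullDim_eq_of_isIntegral (R := R' ⧸ Q)]
    exact not_dim_le_one K hloc hdim hQ
  let f : A →+* NQ Q := (algebraMap R' (NQ Q)).comp (algebraMap A R')
  have hf : ∀ i, (f i : FQ Q) = algebraMap A (FQ Q) i := fun i =>
    (IsScalarTower.algebraMap_apply A R' (FQ Q) i).symm
  obtain ⟨⟨n, ⟨d, hd⟩⟩, hnd⟩ := IsLocalization.surj (nonZeroDivisors (R' ⧸ Q)) (toFQ K hQ x)
  let d' : NQ Q := algebraMap (R' ⧸ Q) (NQ Q) d
  let n' : NQ Q := algebraMap (R' ⧸ Q) (NQ Q) n
  have hd' : d' ≠ 0 := fun h0 => nonZeroDivisors.ne_zero hd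
    (IsFractionRing.injective (R' ⧸ Q) (FQ Q) ((congrArg Subtype.val h0).trans (map_zero _).symm))
  have hx : toFQ K hQ x * (d' : FQ Q) = (n' : FQ Q) := hnd
  have hmem : n' ∈ Ideal.span {d'} := by
    refine mem_span_of_pow_mul (f '' (IsLocalRing.maximalIdeal A : Set A)) hd' hdimN k ?_ ?_
    · intro P hP hsub
      haveI : (P.comap (algebraMap R' (NQ Q))).IsPrime := Ideal.comap_isPrime _ _
      have hle : IsLocalRing.maximalIdeal R' ≤ P.comap (algebraMap R' (NQ Q)) := by
        rw [AdicCompletion.maximalIdeal_eq_map, Ideal.map_le_iff_le_comap]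
        exact fun i hi => hsub ⟨i, hi, rfl⟩
      exact Ideal.isMaximal_of_isIntegral_of_isMaximal_comap (R := R') _ (by
        rw [← (IsLocalRing.maximalIdeal.isMaximal R').eq_of_le (Ideal.IsPrime.ne_top inferInstance) hle]
        infer_instance)
    · rintro _ ⟨i, hi, rfl⟩
      refine Ideal.mem_span_singleton'.2 ⟨⟨_, isIntegral_toFQ K hQ (h _ (Ideal.pow_mem_pow hi k))⟩,
        Subtype.ext ?_⟩
      show toFQ K hQ (algebraMap A K (i ^ k) * x) * (d' : FQ Q) = (f i : FQ Q) ^ k * (n' : FQ Q)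
      rw [hf, map_mul, AlgHom.commutes, mul_assoc, hx, map_pow]
  obtain ⟨z, hz⟩ := Ideal.mem_span_singleton'.1 hmem
  have hz' : (z : FQ Q) * (d' : FQ Q) = (n' : FQ Q) := congrArg Subtype.val hz
  have hd0 : (d' : FQ Q) ≠ 0 := fun h0 => hd' (Subtype.ext h0)
  rw [mul_right_cancel₀ hd0 (hx.trans hz'.symm)]
  exact z.2

/-- An idempotent defined on the punctured spectrum is trivial. -/
theorem idempotent_trivial_punctured {B : Type u} [CommRing B] [Algebra A B] [IsLocalRing B]
    [IsLocalHom (algebraMap A B)] [Module.Flat A B]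
    (hloc : IsLocalRing (integralClosure A K))
    (hpi : ∀ (m' : Ideal (integralClosure A K)) [m'.IsMaximal] (y : integralClosure A K),
      ∃ (n : ℕ) (s : A), y ^ ringExpChar (integralClosure A K ⧸ m') ^ n - algebraMap A _ s ∈ m')
    (hdim : 2 ≤ ringKrullDim A) {e : K ⊗[A] B} (he : IsIdempotentElem e) (k : ℕ)
    (hk : ∀ i ∈ (IsLocalRing.maximalIdeal A) ^ k, ∃ c : B, i • e = (1 : K) ⊗ₜ[A] c) :
    e = 0 ∨ e = 1 := by
  obtain ⟨a, b, ha, rfl⟩ := exists_inv_tmul K e
  have haK : algebraMap A K a ≠ 0 := fun h => ha (IsFractionRing.injective A K (h.trans (map_zero _).symm))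
  have hinj : Function.Injective (fun c : B => (1 : K) ⊗ₜ[A] c) := by
    intro c c' hcc'
    have h := Module.Flat.rTensor_preserves_injective_linearMap (M := B) (Algebra.linearMap A K)
      (IsFractionRing.injective A K)
    refine (TensorProduct.lid A B).symm.injective (h ?_)
    simpa using hcc'
  obtain ⟨ι, _, r, c, hbc, hr⟩ := exists_colon_repr (B := B) ((IsLocalRing.maximalIdeal A) ^ k) a (x := b) (by
    intro i hi
    obtain ⟨c, hc⟩ := hk i hi
    refine Ideal.mem_span_singleton'.2 ⟨c, hinj ?_⟩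
    have := congrArg (a • ·) hc
    simp only [smul_comm a i, TensorProduct.smul_tmul'] at this
    show (1 : K) ⊗ₜ[A] (c * algebraMap A B a) = (1 : K) ⊗ₜ[A] (algebraMap A B i * b)
    rw [← Algebra.smul_def i b, mul_comm, ← Algebra.smul_def a c, TensorProduct.tmul_smul,
      TensorProduct.tmul_smul, TensorProduct.smul_tmul', TensorProduct.smul_tmul', ← this]
    congr 1
    rw [Algebra.smul_def a (algebraMap A K a)⁻¹, mul_inv_cancel₀ haK])
  exact idempotent_trivial_of_repr K hloc hpi he hbc fun l =>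
    isIntegral_of_punctured K hloc hdim k fun i hi => by
      obtain ⟨z, hz⟩ := Ideal.mem_span_singleton'.1 (hr l i hi)
      rw [mul_div_assoc', ← map_mul, ← hz, map_mul, mul_div_cancel_right₀ _ haK]
      exact isIntegral_algebraMap

end Groth.Agent.UnibConn
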