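import Groth.Agent.UnibConn.Connected
import Groth.Prelude.Def_CAlg2
import Mathlib.RingTheory.LocalRing.ResidueField.Fiber
import Mathlib.RingTheory.Ideal.GoingDown
import Mathlib.AlgebraicGeometry.Geometrically.Reduced

/-!
# The generic fibre of a flat local map with geometrically reduced fibres over a geometrically
unibranch base is connected and dense
-/

universe u

open TensorProduct CategoryTheory Limits AlgebraicGeometry

namespace Groth.Agent.UnibConn

/-- Geometrically reduced fibres, algebraically. -/
theorem isReduced_tensor_field {A B : Type u} [CommRing A] [CommRing B] [Algebra A B]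
    [GeometricallyReduced (Spec.map (CommRingCat.ofHom (algebraMap A B)))]
    (L : Type u) [Field L] [Algebra A L] : _root_.IsReduced (L ⊗[A] B) := by
  haveI : AlgebraicGeometry.IsReduced
      (pullback (Spec.map (CommRingCat.ofHom (algebraMap A L))) (Spec.map (CommRingCat.ofHom (algebraMap A B)))) :=
    pullback_of_geometrically' (GeometricallyReduced.geometrically_isReduced
      (f := Spec.map (CommRingCat.ofHom (algebraMap A B)))) _ _
  haveI : AlgebraicGeometry.IsReduced (Spec (CommRingCat.of (L ⊗[A] B))) :=
    isReduced_of_isOpenImmersion (pullbackSpecIso A L B).inv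
  exact (affine_isReduced_iff (CommRingCat.of (L ⊗[A] B))).mp inferInstance

variable {A B : Type u} [CommRing A] [IsLocalRing A] [IsNoetherianRing A] [CommRing B] [IsLocalRing B]
  [Algebra A B] [IsLocalHom (algebraMap A B)] [Module.Flat A B]

theorem idempotent_trivial_fiber (hgeo : ∀ (L : Type u) [Field L] [Algebra A L], _root_.IsReduced (L ⊗[A] B))
    (hA : CAlg2.IsGeomUnibranch A) [(nilradical A).IsPrime]
    {e : (nilradical A).Fiber B} (he : IsIdempotentElem e) : e = 0 ∨ e = 1 := by
  let R := CAlg2.red A
  haveI : IsDomain R := hA.1.1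
  haveI hloc : IsLocalRing (CAlg2.normRed A) := hA.1.2
  haveI : IsLocalRing R := IsLocalRing.of_surjective' (Ideal.Quotient.mk (nilradical A)) Ideal.Quotient.mk_surjective
  let C := R ⊗[A] B
  let incl : B →+* C := (Algebra.TensorProduct.includeRight : B →ₐ[A] C).toRingHom
  have hincl : Function.Surjective incl := fun z => by
    induction z using TensorProduct.induction_on with
    | zero => exact ⟨0, map_zero _⟩
    | tmul r b =>
      obtain ⟨a, rfl⟩ := Ideal.Quotient.mk_surjective r
      refine ⟨a • b, ?_⟩
      show (1 : R) ⊗ₜ[A] (a • b) = _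
      rw [← TensorProduct.smul_tmul, Algebra.smul_def, mul_one]; rfl
    | add x y hx hy =>
      obtain ⟨p, hp⟩ := hx
      obtain ⟨q, hq⟩ := hy
      exact ⟨p + q, by rw [map_add, hp, hq]⟩
  have hnil : RingHom.ker incl ≤ IsLocalRing.maximalIdeal B := by
    intro x hx
    let k := IsLocalRing.ResidueField B
    let f : R →ₐ[A] k := Ideal.Quotient.liftₐ (nilradical A) (Algebra.ofId A k) fun a ha =>
      (IsNilpotent.map (mem_nilradical.1 ha) (algebraMap A k)).eq_zero
    let g : C →ₐ[A] k := Algebra.TensorProduct.lift f (IsScalarTower.toAlgHom A B k) fun _ _ => mul_comm _ _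
    have : g (incl x) = algebraMap B k x := by
      show g ((1 : R) ⊗ₜ[A] x) = _
      exact (Algebra.TensorProduct.lift_tmul _ _ _ _ _).trans (by rw [map_one, one_mul]; rfl)
    rw [RingHom.mem_ker] at hx
    rw [hx, map_zero] at this
    exact IsLocalRing.residue_eq_zero_iff x |>.1 this.symm
  haveI : Nontrivial C := by
    refine nontrivial_of_ne 0 1 fun h => ?_
    exact (IsLocalRing.maximalIdeal.isMaximal B).ne_top ((Ideal.eq_top_iff_one _).2
      (hnil (by rw [RingHom.mem_ker, map_one, h])))
  haveI : IsLocalRing C := IsLocalRing.of_surjective' incl hincl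
  haveI : IsLocalHom incl := .of_surjective incl hincl
  haveI : IsLocalHom (algebraMap R C) := ⟨fun r hr => by
    obtain ⟨a, rfl⟩ := Ideal.Quotient.mk_surjective r
    have h2 : incl (algebraMap A B a) = algebraMap R C (Ideal.Quotient.mk _ a) := by
      show (1 : R) ⊗ₜ[A] algebraMap A B a = (Ideal.Quotient.mk (nilradical A) a : R) ⊗ₜ[A] (1 : B)
      rw [Algebra.algebraMap_eq_smul_one, ← TensorProduct.smul_tmul, Algebra.smul_def, mul_one]; rfl
    rw [← h2] at hr
    exact ((isUnit_of_map_unit (algebraMap A B) _ (isUnit_of_map_unit incl _ hr))).map _⟩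
  let K := FractionRing R
  have hgeo' : ∀ (L : Type u) [Field L] [Algebra R L], _root_.IsReduced (L ⊗[R] C) := by
    intro L _ _
    letI : Algebra A L := ((algebraMap R L).comp (algebraMap A R)).toAlgebra
    haveI : IsScalarTower A R L := IsScalarTower.of_algebraMap_eq' rfl
    haveI := hgeo L
    exact isReduced_of_injective
      (Algebra.TensorProduct.cancelBaseChange A R R L B).toRingEquiv.toRingHom
      (Algebra.TensorProduct.cancelBaseChange A R R L B).injective
  have hpi : ∀ (m' : Ideal (integralClosure R K)) [m'.IsMaximal] (y : integralClosure R K),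
      ∃ (n : ℕ) (s : R), y ^ ringExpChar (integralClosure R K ⧸ m') ^ n - algebraMap R _ s ∈ m' := by
    intro m' _ y
    obtain ⟨n, a, ha⟩ := hA.2 m' (Ideal.Quotient.mk m' y)
    exact ⟨n, Ideal.Quotient.mk _ a, Ideal.Quotient.eq.1 (by rw [map_pow]; exact ha.symm)⟩
  let ι : K ≃ₐ[R] (nilradical A).ResidueField := FractionRing.algEquiv R _
  haveI : IsScalarTower A R K := inferInstance
  let E : K ⊗[R] C ≃+* (nilradical A).Fiber B :=
    (Algebra.TensorProduct.cancelBaseChange A R R K B).toRingEquiv.trans
      (Algebra.TensorProduct.congr (ι.restrictScalars A) AlgEquiv.refl).toRingEquiv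
  have he' : IsIdempotentElem (E.symm e) := he.map E.symm
  rcases idempotent_trivial (A := R) (B := C) K hgeo' hloc hpi he' with h | h
  · left; rw [← E.apply_symm_apply e, h, map_zero]
  · right; rw [← E.apply_symm_apply e, h, map_one]

/-- The generic fibre is preconnected and its closure is everything. -/
theorem generic_fibre (hgeo : ∀ (L : Type u) [Field L] [Algebra A L], _root_.IsReduced (L ⊗[A] B))
    (hA : CAlg2.IsGeomUnibranch A) :
    ∃ η : PrimeSpectrum A, (∀ p : PrimeSpectrum A, η ⤳ p) ∧
      _root_.IsPreconnected (PrimeSpectrum.comap (algebraMap A B) ⁻¹' {η}) ∧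
      closure (PrimeSpectrum.comap (algebraMap A B) ⁻¹' {η}) = Set.univ := by
  haveI : (nilradical A).IsPrime := (Ideal.Quotient.isDomain_iff_prime _).1 hA.1.1
  let η : PrimeSpectrum A := ⟨nilradical A, inferInstance⟩
  refine ⟨η, fun p => (PrimeSpectrum.le_iff_specializes η p).1 (nilradical_le_prime p.asIdeal),
    ?_, ?_⟩
  · rw [isPreconnected_iff_preconnectedSpace]
    haveI : PreconnectedSpace (PrimeSpectrum (η.asIdeal.Fiber B)) := by
      rw [preconnectedSpace_iff_clopen]
      intro s hs
      obtain ⟨e, he, rfl⟩ := PrimeSpectrum.isClopen_iff.1 hs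
      rcases idempotent_trivial_fiber hgeo hA he with rfl | rfl
      · left; rw [PrimeSpectrum.basicOpen_zero]; rfl
      · right; rw [PrimeSpectrum.basicOpen_one]; rfl
    exact DenseRange.preconnectedSpace
      (PrimeSpectrum.preimageHomeomorphFiber A B η).symm.surjective.denseRange
      (PrimeSpectrum.preimageHomeomorphFiber A B η).symm.continuous
  · refine Set.eq_univ_of_forall fun x => ?_
    obtain ⟨Q, hQ, hQx⟩ := Ideal.exists_minimalPrimes_le (I := (⊥ : Ideal B)) (J := x.asIdeal) bot_le
    haveI : Q.IsPrime := hQ.1.1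
    haveI : (x.asIdeal).IsPrime := x.2
    have hle : nilradical A ≤ Q.comap (algebraMap A B) := nilradical_le_prime _
    obtain ⟨Q', hle', hQ', hover⟩ := Q.exists_ideal_le_liesOver_of_le
      (p := nilradical A) (q := Q.comap (algebraMap A B)) hle
    haveI := hQ'
    have heq : Q' = Q := le_antisymm hle' (hQ.2 ⟨hQ', bot_le⟩ hle')
    have hmem : (⟨Q, inferInstance⟩ : PrimeSpectrum B) ∈ PrimeSpectrum.comap (algebraMap A B) ⁻¹' {η} := by
      refine PrimeSpectrum.ext ?_
      show Q.comap (algebraMap A B) = nilradical A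
      rw [← heq]; exact hover.over.symm
    exact closure_mono (Set.singleton_subset_iff.2 hmem)
      ((PrimeSpectrum.le_iff_specializes ⟨Q, inferInstance⟩ x).1 hQx).mem_closure

/-- Removing a closed set with nowhere dense image keeps the spectrum connected. -/
theorem isConnected_compl (hgeo : ∀ (L : Type u) [Field L] [Algebra A L], _root_.IsReduced (L ⊗[A] B))
    (hA : CAlg2.IsGeomUnibranch A) (T : Set (PrimeSpectrum B))
    (hT : ∀ η : PrimeSpectrum A, (∀ p, η ⤳ p) → η ∉ PrimeSpectrum.comap (algebraMap A B) '' T) :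
    IsConnected Tᶜ := by
  obtain ⟨η, hη, hpre, hcl⟩ := generic_fibre hgeo hA
  have hsub : PrimeSpectrum.comap (algebraMap A B) ⁻¹' {η} ⊆ Tᶜ := fun x hx hxT =>
    hT η hη ⟨x, hxT, hx⟩
  refine ⟨?_, hpre.subset_closure hsub (hcl ▸ Set.subset_univ _)⟩
  have hne : (closure (PrimeSpectrum.comap (algebraMap A B) ⁻¹' {η})).Nonempty :=
    hcl ▸ Set.univ_nonempty
  exact (closure_nonempty_iff.1 hne).mono hsub

/-- A point generalizing all others is not in a set with nowhere dense closure. -/
theorem notMem_of_interior_closure_eq_empty {Y : Type*} [TopologicalSpace Y] {S : Set Y} {η : Y}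
    (U : Set Y) (hU : IsOpen U) (hηU : η ∈ U) (hη : ∀ y ∈ U, η ⤳ y)
    (hS : interior (closure S) = ∅) : η ∉ S := by
  intro hmem
  have : U ⊆ closure S := fun y hy =>
    (closure_mono (Set.singleton_subset_iff.2 hmem)) (hη y hy).mem_closure
  have h2 : η ∈ interior (closure S) := interior_maximal this hU hηU
  rw [hS] at h2
  exact h2

end Groth.Agent.UnibConn
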