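import Groth.Agent.UnibConn.Descend
import Mathlib.RingTheory.Ideal.GoingUp
import Mathlib.RingTheory.Spectrum.Prime.Topology
import Mathlib.Algebra.CharP.Algebra
import Mathlib.RingTheory.TensorProduct.Maps

/-!
# Connectedness of the generic fibre over a geometrically unibranch base
-/

universe u

open TensorProduct

namespace Groth.Agent.UnibConn

variable {A : Type u} [CommRing A] [IsDomain A] {B : Type u} [CommRing B] [Algebra A B]

theorem exists_inv_tmul (K : Type u) [Field K] [Algebra A K] [IsFractionRing A K] (z : K ⊗[A] B) :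
    ∃ (a : A) (b : B), a ≠ 0 ∧ z = ((algebraMap A K a)⁻¹) ⊗ₜ[A] b := by
  have hne : ∀ {a : A}, a ≠ 0 → algebraMap A K a ≠ 0 := fun ha h =>
    ha (IsFractionRing.injective A K (h.trans (map_zero _).symm))
  induction z with
  | zero => exact ⟨1, 0, one_ne_zero, by simp⟩
  | tmul k c =>
    obtain ⟨r, s, hs, rfl⟩ := IsFractionRing.div_surjective A k
    have hs0 : (s : A) ≠ 0 := nonZeroDivisors.ne_zero hs
    refine ⟨s, r • c, hs0, ?_⟩
    rw [← TensorProduct.smul_tmul, Algebra.smul_def, div_eq_mul_inv]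
  | add x y hx hy =>
    obtain ⟨a, b, ha, rfl⟩ := hx
    obtain ⟨a', b', ha', rfl⟩ := hy
    refine ⟨a * a', a' • b + a • b', mul_ne_zero ha ha', ?_⟩
    have := hne ha
    have := hne ha'
    rw [TensorProduct.tmul_add, ← TensorProduct.smul_tmul, ← TensorProduct.smul_tmul,
      Algebra.smul_def, Algebra.smul_def, map_mul]
    congr 2 <;> field_simp

variable [IsNoetherianRing A] [IsLocalRing A] [IsLocalRing B] [IsLocalHom (algebraMap A B)]
  [Module.Flat A B] (K : Type u) [Field K] [Algebra A K] [IsFractionRing A K]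

/-- A finite subextension of the normalisation stays local after tensoring with `B`. -/
theorem isLocalRing_tensor
    (hloc : IsLocalRing (integralClosure A K))
    (hpi : ∀ (m' : Ideal (integralClosure A K)) [m'.IsMaximal] (y : integralClosure A K),
      ∃ (n : ℕ) (s : A), y ^ ringExpChar (integralClosure A K ⧸ m') ^ n - algebraMap A _ s ∈ m')
    (A₁ : Subalgebra A K) [Module.Finite A A₁] (hle : A₁ ≤ integralClosure A K)
    [Nontrivial (A₁ ⊗[A] B)] :
    IsLocalRing (A₁ ⊗[A] B) := by
  let m' := IsLocalRing.maximalIdeal (integralClosure A K)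
  let incl : A₁ →ₐ[A] integralClosure A K := Subalgebra.inclusion hle
  letI : Algebra A₁ (integralClosure A K) := incl.toRingHom.toAlgebra
  haveI : IsScalarTower A A₁ (integralClosure A K) := IsScalarTower.of_algebraMap_eq' incl.comp_algebraMap.symm
  haveI : Algebra.IsIntegral A₁ (integralClosure A K) :=
    ⟨fun x => IsIntegral.tower_top (R := A) (Algebra.IsIntegral.isIntegral x)⟩
  let m₁ : Ideal A₁ := m'.comap incl.toRingHom
  haveI : m₁.IsPrime := Ideal.comap_isPrime _ _
  haveI hm₁ : m₁.IsMaximal :=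
    Ideal.isMaximal_comap_of_isIntegral_of_isMaximal (R := A₁) m'
  have huniq : ∀ P : Ideal A₁, P.IsMaximal → P = m₁ := by
    intro P hP
    haveI := hP
    obtain ⟨Q, hQ, hQP⟩ := Ideal.exists_ideal_over_maximal_of_isIntegral (S := integralClosure A K) P (by
      rw [(RingHom.ker_eq_bot_iff_eq_zero _).2 fun x hx => ?_]
      · exact bot_le
      · exact (Subalgebra.inclusion_injective hle) (hx.trans (map_zero _).symm))
    rw [IsLocalRing.eq_maximalIdeal hQ] at hQP
    exact hQP.symm
  let D := A₁ ⊗[A] B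
  let i₁ : A₁ →+* D := (Algebra.TensorProduct.includeLeft : A₁ →ₐ[A] D).toRingHom
  let i₂ : B →+* D := (Algebra.TensorProduct.includeRight : B →ₐ[A] D).toRingHom
  have hfin : i₂.Finite := by
    have h : i₂ = ((Algebra.TensorProduct.comm A B A₁).toRingEquiv.toRingHom).comp
        (algebraMap B (B ⊗[A] A₁)) := RingHom.ext fun x => rfl
    rw [h]
    exact RingHom.Finite.comp (RingHom.Finite.of_surjective _ (Algebra.TensorProduct.comm A B A₁).surjective)
      (RingHom.finite_algebraMap.2 inferInstance)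
  have hB : ∀ M : Ideal D, M.IsMaximal → M.comap i₂ = IsLocalRing.maximalIdeal B := by
    intro M hM
    letI : Algebra B D := i₂.toAlgebra
    haveI : Module.Finite B D := hfin
    haveI := hM
    exact IsLocalRing.eq_maximalIdeal (Ideal.isMaximal_comap_of_isIntegral_of_isMaximal (R := B) M)
  have hA : ∀ M : Ideal D, M.IsMaximal → M.comap i₁ = m₁ := by
    intro M hM
    haveI := hM
    haveI : (M.comap i₁).IsPrime := Ideal.comap_isPrime _ _
    refine huniq _ (Ideal.isMaximal_of_isIntegral_of_isMaximal_comap (R := A) _ ?_)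
    have e : (M.comap i₁).comap (algebraMap A A₁) = (M.comap i₂).comap (algebraMap A B) := by
      rw [Ideal.comap_comap, Ideal.comap_comap]
      congr 1
      exact Algebra.TensorProduct.includeLeftRingHom_comp_algebraMap
    rw [e, hB M hM, show (IsLocalRing.maximalIdeal B).comap (algebraMap A B) = IsLocalRing.maximalIdeal A from
      ((IsLocalRing.local_hom_TFAE (algebraMap A B)).out 0 4).1 (show IsLocalHom (algebraMap A B) from inferInstance)]
    infer_instance
  set q := ringExpChar (integralClosure A K ⧸ m') with hq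
  have hexp : ∀ M : Ideal D, M.IsMaximal → ExpChar (D ⧸ M) q := by
    intro M hM
    haveI := hM
    letI : Field (D ⧸ M) := Ideal.Quotient.field M
    letI : Field (A₁ ⧸ m₁) := Ideal.Quotient.field m₁
    letI : Field (integralClosure A K ⧸ m') := Ideal.Quotient.field m'
    let f : A₁ ⧸ m₁ →+* D ⧸ M := Ideal.quotientMap M i₁ (hA M hM).ge
    let g : A₁ ⧸ m₁ →+* integralClosure A K ⧸ m' := Ideal.quotientMap m' incl.toRingHom le_rfl
    haveI : ExpChar (integralClosure A K ⧸ m') q := ringExpChar.of_eq hq.symm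
    haveI : ExpChar (A₁ ⧸ m₁) q := g.expChar g.injective q
    exact expChar_of_injective_ringHom f.injective q
  have key : ∀ z : D, ∃ (n : ℕ) (β : B), ∀ M : Ideal D, M.IsMaximal → z ^ q ^ n - i₂ β ∈ M := by
    intro z
    induction z using TensorProduct.induction_on with
    | zero =>
      refine ⟨0, 0, fun M hM => ?_⟩
      simp
    | tmul y b =>
      obtain ⟨n, s, hs⟩ := hpi m' (incl y)
      refine ⟨n, algebraMap A B s * b ^ q ^ n, fun M hM => ?_⟩
      have h1 : i₁ (y ^ q ^ n - algebraMap A A₁ s) ∈ M := by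
        rw [← Ideal.mem_comap, hA M hM]
        show incl (y ^ q ^ n - algebraMap A A₁ s) ∈ m'
        rw [map_sub, map_pow, AlgHom.commutes]
        exact hs
      have h2 : (y ⊗ₜ[A] b : D) ^ q ^ n - i₂ (algebraMap A B s * b ^ q ^ n) =
          i₁ (y ^ q ^ n - algebraMap A A₁ s) * i₂ (b ^ q ^ n) := by
        rw [map_sub, sub_mul, Algebra.TensorProduct.tmul_pow, map_mul i₂]
        congr 1
        · show _ = ((y ^ q ^ n) ⊗ₜ[A] (1 : B)) * ((1 : A₁) ⊗ₜ[A] (b ^ q ^ n))
          rw [Algebra.TensorProduct.tmul_mul_tmul, mul_one, one_mul]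
        · congr 1
          exact (RingHom.congr_fun Algebra.TensorProduct.includeLeftRingHom_comp_algebraMap s).symm
      rw [h2]
      exact M.mul_mem_right _ h1
    | add x y hx hy =>
      obtain ⟨n, β, hβ⟩ := hx
      obtain ⟨n', β', hβ'⟩ := hy
      refine ⟨n + n', β ^ q ^ n' + β' ^ q ^ n, fun M hM => ?_⟩
      haveI := hexp M hM
      let π : D →+* D ⧸ M := Ideal.Quotient.mk M
      rw [← Ideal.Quotient.eq]
      show π ((x + y) ^ q ^ (n + n')) = π (i₂ (β ^ q ^ n' + β' ^ q ^ n))
      rw [π.map_pow, π.map_add, add_pow_expChar_pow (π x) (π y) q, i₂.map_add, π.map_add, i₂.map_pow, i₂.map_pow, π.map_pow,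
        π.map_pow]
      have h1 : π (x ^ q ^ n) = π (i₂ β) := Ideal.Quotient.eq.2 (hβ M hM)
      have h2 : π (y ^ q ^ n') = π (i₂ β') := Ideal.Quotient.eq.2 (hβ' M hM)
      rw [π.map_pow] at h1 h2
      rw [← h1, ← h2, ← pow_mul, ← pow_mul, ← pow_add, ← pow_add, add_comm n' n]
  refine IsLocalRing.of_unique_max_ideal ?_
  obtain ⟨M, hM⟩ := Ideal.exists_maximal D
  refine ⟨M, hM, fun M' hM' => hM'.eq_of_le hM.ne_top fun z hz => ?_⟩
  obtain ⟨n, β, hβ⟩ := key z
  haveI := hM.isPrime
  haveI := hM'.isPrime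
  have h1 : i₂ β ∈ M' := by
    haveI := hexp M' hM'
    have := M'.sub_mem (Ideal.pow_mem_of_mem M' hz (q ^ n) (Nat.pow_pos (expChar_pos (D ⧸ M') q))) (hβ M' hM')
    rwa [sub_sub_cancel] at this
  have h2 : i₂ β ∈ M := by
    rw [← Ideal.mem_comap, hB M hM, ← hB M' hM', Ideal.mem_comap]; exact h1
  have h3 := M.add_mem (hβ M hM) h2
  rw [sub_add_cancel] at h3
  exact Ideal.IsPrime.mem_of_pow_mem inferInstance _ h3

/-- An idempotent `b / a` whose denominators are integral is trivial. -/
theorem idempotent_trivial_of_repr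
    (hloc : IsLocalRing (integralClosure A K))
    (hpi : ∀ (m' : Ideal (integralClosure A K)) [m'.IsMaximal] (y : integralClosure A K),
      ∃ (n : ℕ) (s : A), y ^ ringExpChar (integralClosure A K ⧸ m') ^ n - algebraMap A _ s ∈ m')
    {a : A} {b : B} (he : IsIdempotentElem ((algebraMap A K a)⁻¹ ⊗ₜ[A] b))
    {ι : Type u} [Fintype ι] {r : ι → A} {c : ι → B} (hbc : b = ∑ i, r i • c i)
    (hint : ∀ i, IsIntegral A (algebraMap A K (r i) / algebraMap A K a)) :
    (algebraMap A K a)⁻¹ ⊗ₜ[A] b = 0 ∨ (algebraMap A K a)⁻¹ ⊗ₜ[A] b = 1 := by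
  have hinj : Function.Injective (fun c : B => (1 : K) ⊗ₜ[A] c) := by
    intro c c' hcc'
    have h := Module.Flat.rTensor_preserves_injective_linearMap (M := B) (Algebra.linearMap A K)
      (IsFractionRing.injective A K)
    refine (TensorProduct.lid A B).symm.injective (h ?_)
    simpa using hcc'
  let x : ι → K := fun i => algebraMap A K (r i) / algebraMap A K a
  let A₁ : Subalgebra A K := Algebra.adjoin A (Set.range x)
  haveI : Module.Finite A A₁ := Module.Finite.of_fg
    (fg_adjoin_of_finite (Set.finite_range x) fun y ⟨i, hi⟩ => hi ▸ hint i)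
  have hle : A₁ ≤ integralClosure A K := Algebra.adjoin_le fun y ⟨i, hi⟩ => hi ▸ hint i
  let ν : A₁ ⊗[A] B →ₐ[A] K ⊗[A] B := Algebra.TensorProduct.map A₁.val (AlgHom.id A B)
  have hν : Function.Injective ν :=
    Module.Flat.rTensor_preserves_injective_linearMap (M := B) A₁.val.toLinearMap Subtype.val_injective
  let ε : A₁ ⊗[A] B := ∑ i, (⟨x i, Algebra.subset_adjoin ⟨i, rfl⟩⟩ : A₁) ⊗ₜ[A] c i
  have hε : ν ε = (algebraMap A K a)⁻¹ ⊗ₜ[A] b := by
    rw [map_sum, hbc, TensorProduct.tmul_sum]
    refine Finset.sum_congr rfl fun i _ => ?_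
    rw [← TensorProduct.smul_tmul, Algebra.smul_def]
    show (x i) ⊗ₜ[A] c i = _
    rw [show x i = algebraMap A K (r i) / algebraMap A K a from rfl, div_eq_mul_inv]
  haveI : Nontrivial (A₁ ⊗[A] B) := by
    refine nontrivial_of_ne 0 1 fun h01 => ?_
    have h := congrArg ν h01
    rw [map_zero, map_one, Algebra.TensorProduct.one_def] at h
    exact one_ne_zero (hinj (h.symm.trans (TensorProduct.tmul_zero B (1 : K)).symm))
  haveI := isLocalRing_tensor K hloc hpi A₁ hle (B := B)
  have hεi : IsIdempotentElem ε := hν (by rw [map_mul, hε]; exact he)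
  have h01 : ε = 0 ∨ ε = 1 := by
    rcases IsLocalRing.isUnit_or_isUnit_one_sub_self ε with h | h
    · exact Or.inr ((IsIdempotentElem.iff_eq_one_of_isUnit h).1 hεi)
    · exact Or.inl (by simpa using (IsIdempotentElem.iff_eq_one_of_isUnit h).1 hεi.one_sub)
  rcases h01 with h | h
  · left; rw [← hε, h, map_zero]
  · right; rw [← hε, h, map_one]


/-- The generic fibre has only trivial idempotents. -/
theorem idempotent_trivial
    (hgeo : ∀ (L : Type u) [Field L] [Algebra A L], IsReduced (L ⊗[A] B))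
    (hloc : IsLocalRing (integralClosure A K))
    (hpi : ∀ (m' : Ideal (integralClosure A K)) [m'.IsMaximal] (y : integralClosure A K),
      ∃ (n : ℕ) (s : A), y ^ ringExpChar (integralClosure A K ⧸ m') ^ n - algebraMap A _ s ∈ m')
    {e : K ⊗[A] B} (he : IsIdempotentElem e) : e = 0 ∨ e = 1 := by
  obtain ⟨a, b, ha, rfl⟩ := exists_inv_tmul K e
  have haK : algebraMap A K a ≠ 0 := fun h => ha (IsFractionRing.injective A K (h.trans (map_zero _).symm))
  have hinj : Function.Injective (fun c : B => (1 : K) ⊗ₜ[A] c) := by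
    intro c c' hcc'
    have h := Module.Flat.rTensor_preserves_injective_linearMap (M := B) (Algebra.linearMap A K)
      (IsFractionRing.injective A K)
    refine (TensorProduct.lid A B).symm.injective (h ?_)
    simpa using hcc'
  have hb : b * b = algebraMap A B a * b := by
    refine hinj ?_
    have h1 : ((algebraMap A K a)⁻¹ ⊗ₜ[A] b) * ((algebraMap A K a)⁻¹ ⊗ₜ[A] b) = (algebraMap A K a)⁻¹ ⊗ₜ[A] b := he
    rw [Algebra.TensorProduct.tmul_mul_tmul] at h1
    have h2 := congrArg (fun t => ((algebraMap A K a * algebraMap A K a) ⊗ₜ[A] (1 : B)) * t) h1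
    simp only [Algebra.TensorProduct.tmul_mul_tmul, one_mul] at h2
    have e1 : algebraMap A K a * algebraMap A K a * ((algebraMap A K a)⁻¹ * (algebraMap A K a)⁻¹) = 1 := by
      field_simp
    have e2 : algebraMap A K a * algebraMap A K a * (algebraMap A K a)⁻¹ = algebraMap A K a := by
      field_simp
    rw [e1, e2] at h2
    show (1 : K) ⊗ₜ[A] (b * b) = (1 : K) ⊗ₜ[A] (algebraMap A B a * b)
    rw [← Algebra.smul_def a b, ← TensorProduct.smul_tmul, Algebra.smul_def, mul_one]
    exact h2
  obtain ⟨ι, _, r, c, hbc, hint⟩ := exists_integral_repr hgeo K ha hb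
  exact idempotent_trivial_of_repr K hloc hpi he hbc hint

end Groth.Agent.UnibConn
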