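import Groth.Agent.UnibConn.Normal
import Groth.Agent.CompleteNagata.Complete
import Groth.Agent.S0542
import Mathlib.LinearAlgebra.TensorProduct.Pi

/-!
# Denominators of idempotents are integral

For a Noetherian local domain `A` with fraction field `K` and a flat `A`-algebra `B` all of whose
fibres are geometrically reduced, if `b² = a b` in `B` with `a ≠ 0` in `A` then `b = Σ rᵢ bᵢ`
with every `rᵢ / a` integral over `A`.
-/

universe u

open TensorProduct

namespace Groth.Agent.UnibConn

section Fraction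

variable {A : Type u} [CommRing A] (K : Type u) [Field K] [Algebra A K]

theorem exists_poly_of_mem_pow {a r : A} (ha : algebraMap A K a ≠ 0) (k : ℕ) {z : A}
    (hz : z ∈ Ideal.span {r, a} ^ k) :
    ∃ P : Polynomial A, P.natDegree ≤ k ∧
      algebraMap A K z = algebraMap A K a ^ k *
        Polynomial.aeval (algebraMap A K r / algebraMap A K a) P := by
  induction k generalizing z with
  | zero => exact ⟨Polynomial.C z, by simp, by simp⟩
  | succ k ih =>
    rw [pow_succ'] at hz
    refine Submodule.mul_induction_on hz ?_ ?_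
    · intro x hx y hy
      obtain ⟨α, β, rfl⟩ := Ideal.mem_span_pair.1 hx
      obtain ⟨P, hP, hy'⟩ := ih hy
      refine ⟨(Polynomial.C α * Polynomial.X + Polynomial.C β) * P, ?_, ?_⟩
      · refine le_trans Polynomial.natDegree_mul_le ?_
        have : (Polynomial.C α * Polynomial.X + Polynomial.C β).natDegree ≤ 1 :=
          Polynomial.natDegree_linear_le
        omega
      · rw [map_mul, hy', map_add, map_mul, map_mul, map_mul, map_add, map_mul,
          Polynomial.aeval_X, Polynomial.aeval_C, Polynomial.aeval_C, pow_succ]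
        field_simp
    · rintro x y ⟨P, hP, hx⟩ ⟨Q, hQ, hy⟩
      exact ⟨P + Q, le_trans (Polynomial.natDegree_add_le _ _) (max_le hP hQ),
        by rw [map_add, hx, hy, map_add, mul_add]⟩

theorem isIntegral_div {a r : A} (ha : algebraMap A K a ≠ 0) (M : ℕ) (hM : 1 ≤ M)
    (h : r ^ M ∈ Ideal.span {a} * Ideal.span {r, a} ^ (M - 1)) :
    IsIntegral A (algebraMap A K r / algebraMap A K a) := by
  obtain ⟨w, hw, hrw⟩ := Ideal.mem_span_singleton_mul.1 h
  obtain ⟨P, hP, hw'⟩ := exists_poly_of_mem_pow K ha (M - 1) hw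
  refine ⟨Polynomial.X ^ M - P, Polynomial.monic_X_pow_sub ?_, ?_⟩
  · exact lt_of_le_of_lt Polynomial.degree_le_natDegree (by
      exact_mod_cast (show P.natDegree < M by omega))
  · rw [← Polynomial.aeval_def, map_sub, map_pow, Polynomial.aeval_X, sub_eq_zero, div_pow,
      div_eq_iff (pow_ne_zero M ha), ← map_pow, ← hrw, map_mul, hw']
    conv_rhs => rw [show M = (M - 1) + 1 by omega, pow_succ]
    ring

end Fraction

/-- `r ^ M ∈ a (r, a)^(M-1) + Q` -/
def Pred {R : Type u} [CommRing R] (a r : R) (Q : Ideal R) : Prop :=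
  ∃ M, 1 ≤ M ∧ r ^ M ∈ Ideal.span {a} * Ideal.span {r, a} ^ (M - 1) ⊔ Q

theorem Pred.mul {R : Type u} [CommRing R] {a r : R} {Q Q' : Ideal R} (h : Pred a r Q)
    (h' : Pred a r Q') : Pred a r (Q * Q') := by
  obtain ⟨M, hM, h⟩ := h
  obtain ⟨M', hM', h'⟩ := h'
  obtain ⟨w, hw, q, hq, hwq⟩ := Submodule.mem_sup.1 h
  obtain ⟨w', hw', q', hq', hwq'⟩ := Submodule.mem_sup.1 h'
  refine ⟨M + M', by omega, Submodule.mem_sup.2
    ⟨w * r ^ M' + r ^ M * w' - w * w', ?_, q * q', Ideal.mul_mem_mul hq hq', ?_⟩⟩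
  · have h1 : Ideal.span {a} ≤ Ideal.span {r, a} := Ideal.span_mono (by simp)
    have hJ : ∀ N, 1 ≤ N → Ideal.span {a} * Ideal.span {r, a} ^ (N - 1) ≤ Ideal.span {r, a} ^ N := by
      intro N hN
      calc Ideal.span {a} * Ideal.span {r, a} ^ (N - 1)
          ≤ Ideal.span {r, a} * Ideal.span {r, a} ^ (N - 1) := Ideal.mul_mono h1 le_rfl
        _ = _ := by rw [← pow_succ']; congr 1; omega
    have hp : ∀ N, r ^ N ∈ Ideal.span {r, a} ^ N := fun N =>
      Ideal.pow_mem_pow (Ideal.subset_span (by simp)) N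
    have hA : ∀ N N' (x y : R), 1 ≤ N → x ∈ Ideal.span {a} * Ideal.span {r, a} ^ (N - 1) →
        y ∈ Ideal.span {r, a} ^ N' →
        x * y ∈ Ideal.span {a} * Ideal.span {r, a} ^ (N + N' - 1) := by
      intro N N' x y hN hx hy
      rw [show N + N' - 1 = (N - 1) + N' by omega, pow_add, ← mul_assoc]
      exact Ideal.mul_mem_mul hx hy
    refine Ideal.sub_mem _ (add_mem (hA M M' _ _ hM hw (hp M')) ?_) (hA M M' _ _ hM hw (hJ M' hM' hw'))
    rw [mul_comm (r ^ M) w', add_comm M]
    exact hA M' M _ _ hM' hw' (hp M)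
  · rw [pow_add, ← hwq, ← hwq']
    ring

theorem Pred.prod {R : Type u} [CommRing R] {a r : R} (s : Finset (Ideal R)) (hs : s.Nonempty)
    (h : ∀ Q ∈ s, Pred a r Q) : Pred a r (∏ Q ∈ s, Q) := by
  classical
  induction hs using Finset.Nonempty.cons_induction with
  | singleton Q => rw [Finset.prod_singleton]; exact h Q (Finset.mem_singleton_self Q)
  | cons Q t hQ _ ih =>
    rw [Finset.prod_cons]
    exact (h Q (Finset.mem_cons_self Q t)).mul (ih fun P hP => h P (Finset.mem_cons_of_mem hP))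

theorem Pred.pow {R : Type u} [CommRing R] {a r : R} {Q : Ideal R} (h : Pred a r Q) (k : ℕ)
    (hk : 1 ≤ k) : Pred a r (Q ^ k) := by
  induction k, hk using Nat.le_induction with
  | base => rwa [pow_one]
  | succ k hk ih => rw [pow_succ]; exact ih.mul h

/-- An element of `(R/Q)`-normalisation equal to `r / a` yields the relation modulo `Q`. -/
theorem pred_of_isIntegral {R : Type u} [CommRing R] (Q : Ideal R) [Q.IsPrime] {a r : R}
    (L : Type u) [Field L] [Algebra (R ⧸ Q) L] [FaithfulSMul (R ⧸ Q) L] {n : L}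
    (hn : IsIntegral (R ⧸ Q) n)
    (h : algebraMap (R ⧸ Q) L (Ideal.Quotient.mk Q r) = algebraMap (R ⧸ Q) L (Ideal.Quotient.mk Q a) * n) :
    Pred a r Q := by
  obtain ⟨f, hf, hfn⟩ := hn
  have hM : 1 ≤ f.natDegree := by
    rcases Nat.eq_zero_or_pos f.natDegree with h0 | h0
    · rw [hf.natDegree_eq_zero.1 h0] at hfn
      simp at hfn
    · exact h0
  refine ⟨f.natDegree, hM, ?_⟩
  let φ : R →+* L := (algebraMap (R ⧸ Q) L).comp (Ideal.Quotient.mk Q)
  have hφ : ∀ x, φ x = 0 → x ∈ Q := fun x hx => Ideal.Quotient.eq_zero_iff_mem.1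
    ((FaithfulSMul.algebraMap_injective (R ⧸ Q) L) (by rw [map_zero]; exact hx))
  have hc : ∀ i, ∃ c : R, Ideal.Quotient.mk Q c = f.coeff i := fun i => Ideal.Quotient.mk_surjective _
  choose c hc using hc
  let M := f.natDegree
  let w : R := ∑ i ∈ Finset.range M, c i * r ^ i * a ^ (M - i)
  have hw : w ∈ Ideal.span {a} * Ideal.span {r, a} ^ (M - 1) := by
    refine Ideal.sum_mem _ fun i hi => ?_
    have hi' : i < M := Finset.mem_range.1 hi
    rw [show c i * r ^ i * a ^ (M - i) = c i * (a * (r ^ i * a ^ (M - 1 - i))) by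
      rw [show M - i = (M - 1 - i) + 1 by omega, pow_succ]; ring]
    refine Ideal.mul_mem_left _ _ (Ideal.mul_mem_mul (Ideal.mem_span_singleton_self a) ?_)
    have he : Ideal.span {r, a} ^ (M - 1) = Ideal.span {r, a} ^ i * Ideal.span {r, a} ^ (M - 1 - i) := by
      rw [← pow_add]; congr 1; omega
    rw [he]
    exact Ideal.mul_mem_mul (Ideal.pow_mem_pow (Ideal.subset_span (Set.mem_insert r {a})) _)
      (Ideal.pow_mem_pow (Ideal.subset_span (Set.mem_insert_of_mem r (Set.mem_singleton a))) _)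
  refine Submodule.mem_sup.2 ⟨-w, neg_mem hw, r ^ M + w, hφ _ ?_, by ring⟩
  have he : φ (r ^ M + w) = φ a ^ M * Polynomial.eval₂ (algebraMap (R ⧸ Q) L) n f := by
    rw [Polynomial.eval₂_eq_sum_range, Finset.sum_range_succ, hf.coeff_natDegree, map_one, one_mul,
      mul_add, Finset.mul_sum, map_add, map_pow, map_sum, add_comm]
    have hr : φ r = φ a * n := h
    congr 1
    · refine Finset.sum_congr rfl fun i hi => ?_
      rw [map_mul, map_mul, map_pow, map_pow, hr, ← hc i]
      show φ (c i) * (φ a * n) ^ i * φ a ^ (M - i) = φ a ^ M * (φ (c i) * n ^ i)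
      have : i + (M - i) = M := by have := Finset.mem_range.1 hi; omega
      conv_rhs => rw [← this, pow_add]
      ring
    · rw [hr, mul_pow]
  rw [he, hfn, mul_zero]

theorem exists_repr {A B : Type u} [CommRing A] [CommRing B] [Algebra A B] (W : Submodule A A)
    (z : B ⊗[A] W) : ∃ (ι : Type u) (_ : Fintype ι) (r : ι → A) (c : ι → B),
      TensorProduct.rid A B (LinearMap.lTensor B W.subtype z) = ∑ i, r i • c i ∧ ∀ i, r i ∈ W := by
  induction z with
  | zero => exact ⟨PEmpty, inferInstance, PEmpty.elim, PEmpty.elim, by simp, fun i => i.elim⟩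
  | tmul c w =>
    exact ⟨PUnit, inferInstance, fun _ => (w : A), fun _ => c, by simp, fun _ => w.2⟩
  | add x y hx hy =>
    obtain ⟨ι, _, r, c, e, h⟩ := hx
    obtain ⟨ι', _, r', c', e', h'⟩ := hy
    refine ⟨ι ⊕ ι', inferInstance, Sum.elim r r', Sum.elim c c', ?_, fun i => by cases i <;> simp [h, h']⟩
    rw [map_add, map_add, e, e', Fintype.sum_sum_type]
    rfl

/-- The multiples of `a`. -/
abbrev mulRange {A : Type u} [CommRing A] (N : Type u) [CommRing N] [Algebra A N] (a : A) : Submodule A N :=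
  LinearMap.range (LinearMap.lsmul A N a)

theorem lTensor_mkQ_eq_zero {A B : Type u} [CommRing A] [CommRing B] [Algebra A B] [Module.Flat A B]
    (hgeo : ∀ (L : Type u) [Field L] [Algebra A L], IsReduced (L ⊗[A] B))
    (N : Type u) [CommRing N] [IsDomain N] [IsNoetherianRing N] [IsIntegrallyClosed N] [Algebra A N]
    {a : A} (ha : algebraMap A N a ≠ 0) {b : B} (h : b * b = algebraMap A B a * b) :
    LinearMap.lTensor B (mulRange N a).mkQ (b ⊗ₜ[A] (1 : N)) = 0 := by
  have hred : ∀ (p : Ideal N) [p.IsPrime], IsReduced (p.ResidueField ⊗[N] (N ⊗[A] B)) := by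
    intro p _
    haveI := hgeo p.ResidueField
    exact isReduced_of_injective
      (Algebra.TensorProduct.cancelBaseChange A N N p.ResidueField B).toRingEquiv.toRingHom
      (Algebra.TensorProduct.cancelBaseChange A N N p.ResidueField B).injective
  have hsq : ((1 : N) ⊗ₜ[A] b) * ((1 : N) ⊗ₜ[A] b) =
      algebraMap N (N ⊗[A] B) (algebraMap A N a) * ((1 : N) ⊗ₜ[A] b) := by
    rw [Algebra.TensorProduct.tmul_mul_tmul, one_mul, h, Algebra.TensorProduct.algebraMap_apply,
      Algebra.TensorProduct.tmul_mul_tmul, mul_one, one_mul, ← Algebra.smul_def a b,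
      ← TensorProduct.smul_tmul, Algebra.smul_def a (1 : N), mul_one, Algebra.algebraMap_self_apply]
  obtain ⟨z, hz⟩ := Ideal.mem_span_singleton'.1 (mem_span_of_sq_eq hred ha hsq)
  have key : ∀ z : N ⊗[A] B, LinearMap.lTensor B (mulRange N a).mkQ
      (TensorProduct.comm A _ _ (z * algebraMap N (N ⊗[A] B) (algebraMap A N a))) = 0 := by
    intro z
    induction z with
    | zero => simp
    | add x y hx hy => rw [add_mul, map_add, map_add, hx, hy, add_zero]
    | tmul n b' =>
      rw [Algebra.TensorProduct.algebraMap_apply, Algebra.TensorProduct.tmul_mul_tmul, mul_one,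
        TensorProduct.comm_tmul, LinearMap.lTensor_tmul]
      have : n * (algebraMap N N (algebraMap A N a)) ∈ mulRange N a :=
        ⟨n, by show a • n = _; rw [Algebra.smul_def, mul_comm]; rfl⟩
      rw [Submodule.mkQ_apply, (Submodule.Quotient.mk_eq_zero _).2 this, TensorProduct.tmul_zero]
  have := key z
  rwa [hz, TensorProduct.comm_tmul] at this

variable {A : Type u} [CommRing A] [IsDomain A] [IsNoetherianRing A] [IsLocalRing A]
  {B : Type u} [CommRing B] [Algebra A B] [Module.Flat A B]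

theorem exists_integral_repr
    (hgeo : ∀ (L : Type u) [Field L] [Algebra A L], IsReduced (L ⊗[A] B))
    (K : Type u) [Field K] [Algebra A K] [FaithfulSMul A K]
    {a : A} (ha : a ≠ 0) {b : B} (h : b * b = algebraMap A B a * b) :
    ∃ (ι : Type u) (_ : Fintype ι) (r : ι → A) (c : ι → B), b = ∑ i, r i • c i ∧
      ∀ i, IsIntegral A (algebraMap A K (r i) / algebraMap A K a) := by
  classical
  let R := AdicCompletion (IsLocalRing.maximalIdeal A) A
  haveI : IsNoetherianRing R := S0542.result A _ (IsNoetherian.noetherian _)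
  haveI : Module.FaithfullyFlat A R := Module.FaithfullyFlat.of_flat_of_isLocalHom
  have hNag := CompleteNagata.isNagata_of_complete R
  let T := {Q : Ideal R // Q ∈ minimalPrimes R}
  haveI : Fintype T := (minimalPrimes.finite_of_isNoetherianRing R).fintype
  haveI : ∀ Q : T, (Q.1).IsPrime := fun Q => Q.2.1.1
  let F : T → Type u := fun Q => FractionRing (R ⧸ Q.1)
  let N : T → Type u := fun Q => integralClosure (R ⧸ Q.1) (F Q)
  haveI hfin : ∀ Q : T, Module.Finite (R ⧸ Q.1) (N Q) := fun Q =>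
    hNag.2 Q.1 (F Q) inferInstance
  haveI : ∀ Q : T, IsNoetherianRing (N Q) := fun Q =>
    IsNoetherianRing.of_finite (R ⧸ Q.1) (N Q)
  letI : ∀ Q : T, Algebra A (N Q) := fun Q =>
    ((algebraMap (R ⧸ Q.1) (N Q)).comp ((Ideal.Quotient.mk Q.1).comp (algebraMap A R))).toAlgebra
  have haQ : ∀ Q : T, algebraMap A R a ∉ Q.1 := by
    intro Q hmem
    have h1 : IsSMulRegular R (algebraMap A R a) :=
      IsSMulRegular.of_flat (fun x y hxy => mul_left_cancel₀ ha hxy)
    have h2 : algebraMap A R a ∈ nonZeroDivisors R :=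
      mem_nonZeroDivisors_iff_right.2 fun x hx => h1 (by
        show algebraMap A R a * x = algebraMap A R a * 0
        rw [mul_zero, mul_comm, hx])
    exact Set.disjoint_left.1 (Ideal.disjoint_nonZeroDivisors_of_mem_minimalPrimes Q.2) hmem h2
  have haN : ∀ Q : T, algebraMap A (N Q) a ≠ 0 := by
    intro Q h0
    have h1 := congrArg Subtype.val h0
    exact haQ Q (Ideal.Quotient.eq_zero_iff_mem.1
      (IsFractionRing.injective (R ⧸ Q.1) (F Q) (h1.trans (map_zero _).symm)))
  let J : ∀ Q : T, Submodule A (N Q) := fun Q => mulRange (N Q) a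
  let ψ : A →ₗ[A] ∀ Q : T, N Q ⧸ J Q :=
    LinearMap.pi fun Q => (J Q).mkQ ∘ₗ Algebra.linearMap A (N Q)
  have hb : LinearMap.lTensor B ψ (b ⊗ₜ[A] (1 : A)) = 0 := by
    refine (TensorProduct.piRight A A B fun Q : T => N Q ⧸ J Q).injective ?_
    rw [map_zero, LinearMap.lTensor_tmul, TensorProduct.piRight_apply,
      TensorProduct.piRightHom_tmul]
    funext Q
    haveI : IsIntegrallyClosed (N Q) := integralClosure.isIntegrallyClosedOfFiniteExtension (FractionRing (R ⧸ Q.1))
    have h0 := lTensor_mkQ_eq_zero hgeo (N Q) (haN Q) h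
    show b ⊗ₜ[A] (J Q).mkQ (algebraMap A (N Q) 1) = 0
    rw [map_one]
    exact h0
  obtain ⟨z, hz⟩ := ((Module.Flat.lTensor_exact B (LinearMap.exact_subtype_ker_map ψ)) _).1 hb
  obtain ⟨ι, hι, r, c, hrc, hW⟩ := exists_repr (LinearMap.ker ψ) z
  rw [hz, TensorProduct.rid_tmul, one_smul] at hrc
  refine ⟨ι, hι, r, c, hrc, fun i => ?_⟩
  · have h1 : ψ (r i) = 0 := LinearMap.mem_ker.1 (hW i)
    have hr : ∀ Q : T, algebraMap A (N Q) (r i) ∈ J Q := fun Q => by
      have h2 : (J Q).mkQ (algebraMap A (N Q) (r i)) = 0 := congrFun h1 Q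
      exact (Submodule.Quotient.mk_eq_zero _).1 h2
    have hP : ∀ Q : T, Pred (algebraMap A R a) (algebraMap A R (r i)) Q.1 := by
      intro Q
      obtain ⟨n, hn⟩ := hr Q
      refine pred_of_isIntegral Q.1 (F Q) (n := (n : F Q)) n.2 ?_
      have := congrArg Subtype.val hn
      rw [LinearMap.lsmul_apply, Algebra.smul_def] at this
      exact this.symm
    haveI : Nonempty T := by
      obtain ⟨m, hm⟩ := Ideal.exists_maximal R
      haveI := hm.isPrime
      obtain ⟨Q, hQ, -⟩ := Ideal.exists_minimalPrimes_le (I := (⊥ : Ideal R)) (J := m) bot_le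
      exact ⟨⟨Q, hQ⟩⟩
    have hfinT := (minimalPrimes.finite_of_isNoetherianRing R)
    obtain ⟨k, hk⟩ := IsNoetherianRing.isNilpotent_nilradical R
    have h1 := (Pred.prod hfinT.toFinset ⟨(Classical.arbitrary T).1,
      hfinT.mem_toFinset.2 (Classical.arbitrary T).2⟩ fun Q hQ => hP ⟨Q, hfinT.mem_toFinset.1 hQ⟩).pow
      (k + 1) (by omega)
    have h0 : (∏ Q ∈ hfinT.toFinset, Q) ^ (k + 1) = (⊥ : Ideal R) := by
      refine le_bot_iff.1 (le_trans (Ideal.pow_right_mono (J := nilradical R) ?_ (k + 1)) ?_)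
      · rw [nilradical_eq_sInf]
        refine le_sInf fun P hP' => ?_
        haveI : P.IsPrime := hP'
        obtain ⟨Q, hQ, hQP⟩ := Ideal.exists_minimalPrimes_le (I := (⊥ : Ideal R)) (J := P) bot_le
        exact le_trans (le_trans Ideal.prod_le_inf (Finset.inf_le (hfinT.mem_toFinset.2 hQ))) hQP
      · rw [pow_succ, hk]; simp
    obtain ⟨M, hM, hrel⟩ := h1
    rw [h0, sup_bot_eq, ← map_pow] at hrel
    refine isIntegral_div K (fun h => ha (FaithfulSMul.algebraMap_injective A K (h.trans (map_zero _).symm))) M hM ?_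
    have e : Ideal.span {algebraMap A R a} * Ideal.span {algebraMap A R (r i), algebraMap A R a} ^ (M - 1) =
        (Ideal.span {a} * Ideal.span {r i, a} ^ (M - 1)).map (algebraMap A R) := by
      rw [Ideal.map_mul, Ideal.map_pow, Ideal.map_span, Ideal.map_span, Set.image_singleton, Set.image_pair]
    rw [e, ← Ideal.mem_comap, Ideal.comap_map_eq_self_of_faithfullyFlat] at hrel
    exact hrel

end Groth.Agent.UnibConn
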