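import Groth.Agent.S14359
import Mathlib.RingTheory.DiscreteValuationRing.TFAE
import Mathlib.RingTheory.Flat.FaithfullyFlat.Algebra
import Mathlib.RingTheory.Flat.Basic
import Mathlib.RingTheory.TensorProduct.Quotient

/-!
# A flat algebra with reduced fibres over a normal Noetherian domain has no new idempotents

If `N` is a normal Noetherian domain, `C` a flat `N`-algebra all of whose fibres are reduced and
`c² = a c` in `C` with `a ≠ 0` in `N`, then `c ∈ a C`.
-/

universe u

open TensorProduct
open scoped Pointwise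

namespace Groth.Agent.UnibConn

variable {N : Type u} [CommRing N] [IsDomain N] [IsNoetherianRing N] [IsIntegrallyClosed N]

/-- A uniformizer at a height one prime of a normal Noetherian domain. -/
theorem exists_uniformizer (p : Ideal N) [p.IsPrime] (hp : p.height = 1) :
    ∃ π ∈ p, π ≠ 0 ∧ (∀ x ∈ p, ∃ s, s ∉ p ∧ s * x ∈ Ideal.span {π}) ∧
      ∀ a : N, a ≠ 0 → ∃ (m : ℕ) (s t : N), s ∉ p ∧ t ∉ p ∧ s * a = t * π ^ m := by
  let L := Localization.AtPrime p
  haveI : IsIntegrallyClosed L := isIntegrallyClosed_of_isLocalization L p.primeCompl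
    p.primeCompl_le_nonZeroDivisors
  haveI : IsDomain L := IsLocalization.isDomain_localization p.primeCompl_le_nonZeroDivisors
  have hinj : Function.Injective (algebraMap N L) :=
    IsLocalization.injective L p.primeCompl_le_nonZeroDivisors
  have hdim : ringKrullDim L = (1 : ℕ) := by
    rw [IsLocalization.AtPrime.ringKrullDim_eq_height p L, hp]; rfl
  haveI : Ring.KrullDimLE 1 L := ⟨le_of_eq hdim⟩
  have hp0 : p ≠ ⊥ := by
    intro h
    subst h
    simp at hp
  have hbot : IsLocalRing.maximalIdeal L ≠ ⊥ := by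
    intro h
    refine hp0 (le_bot_iff.1 fun x hx => ?_)
    have : algebraMap N L x ∈ IsLocalRing.maximalIdeal L :=
      (IsLocalization.AtPrime.to_map_mem_maximal_iff L p x).2 hx
    rw [h, Submodule.mem_bot] at this
    exact (Submodule.mem_bot _).2 (hinj (this.trans (map_zero _).symm))
  have hnf : ¬ IsField L := fun h => hbot ((IsLocalRing.isField_iff_maximalIdeal_eq).1 h)
  have h4 : IsIntegrallyClosed L ∧ ∃! P : Ideal L, P ≠ ⊥ ∧ P.IsPrime :=
    ⟨inferInstance, IsLocalRing.maximalIdeal L, ⟨hbot, inferInstance⟩, fun P hP =>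
      IsLocalRing.eq_maximalIdeal
        ((Ring.krullDimLE_one_iff_of_noZeroDivisors.1 inferInstance) P hP.1 hP.2)⟩
  haveI : IsDiscreteValuationRing L := ((IsDiscreteValuationRing.TFAE L hnf).out 0 3).2 h4
  obtain ⟨ϖ, hϖ⟩ := IsDiscreteValuationRing.exists_irreducible L
  have hϖm := hϖ.maximalIdeal_eq
  obtain ⟨π, w, hπw⟩ := IsLocalization.exists_mk'_eq p.primeCompl ϖ
  have hassoc : Associated ϖ (algebraMap N L π) := by
    refine ⟨(IsLocalization.map_units L w).unit, ?_⟩
    rw [IsUnit.unit_spec, ← hπw, IsLocalization.mk'_spec]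
  have hirr : Irreducible (algebraMap N L π) := hassoc.irreducible hϖ
  have hπp : π ∈ p := (IsLocalization.AtPrime.to_map_mem_maximal_iff L p π).1 (by
    rw [hirr.maximalIdeal_eq]; exact Ideal.mem_span_singleton_self _)
  refine ⟨π, hπp, fun h => hirr.ne_zero (by rw [h, map_zero]), fun x hx => ?_, fun a ha => ?_⟩
  · have h1 : algebraMap N L x ∈ IsLocalRing.maximalIdeal L :=
      (IsLocalization.AtPrime.to_map_mem_maximal_iff L p x).2 hx
    rw [hirr.maximalIdeal_eq, Ideal.mem_span_singleton'] at h1
    obtain ⟨y, hy⟩ := h1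
    obtain ⟨y₀, s, rfl⟩ := IsLocalization.exists_mk'_eq p.primeCompl y
    rw [IsLocalization.mk'_eq_mul_mk'_one, mul_comm (algebraMap N L y₀), mul_assoc, ← map_mul] at hy
    have hy' : algebraMap N L (y₀ * π) = algebraMap N L (s * x) := by
      rw [map_mul _ (s : N), ← hy, ← mul_assoc (algebraMap N L (s : N)),
        mul_comm (algebraMap N L (s : N)), IsLocalization.mk'_spec, map_one, one_mul]
    exact ⟨s, s.2, Ideal.mem_span_singleton'.2 ⟨y₀, hinj hy'⟩⟩
  · obtain ⟨m, v, hv⟩ := IsDiscreteValuationRing.eq_unit_mul_pow_irreducible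
      (fun h => ha (hinj (h.trans (map_zero _).symm)) : algebraMap N L a ≠ 0) hirr
    obtain ⟨t, s, hts⟩ := IsLocalization.exists_mk'_eq p.primeCompl (v : L)
    refine ⟨m, s, t, s.2, ?_, hinj ?_⟩
    · exact (IsLocalization.AtPrime.isUnit_mk'_iff L p t s).1 (hts ▸ v.isUnit)
    · rw [map_mul, map_mul, hv, ← hts, ← mul_assoc, mul_comm (algebraMap N L (s : N)),
        IsLocalization.mk'_spec, map_pow]

variable {C : Type u} [CommRing C] [Algebra N C] [Module.Flat N C]

/-- Reducedness of the fibre at `p` passes to `C / p C`. -/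
theorem mem_map_of_sq_mem (p : Ideal N) [p.IsPrime] (hred : IsReduced (p.ResidueField ⊗[N] C))
    {d : C} (hd : d * d ∈ p.map (algebraMap N C)) : d ∈ p.map (algebraMap N C) := by
  have h1 : Function.Injective ((IsScalarTower.toAlgHom N (N ⧸ p) p.ResidueField).toLinearMap.lTensor C) :=
    Module.Flat.lTensor_preserves_injective_linearMap _ (Ideal.injective_algebraMap_quotient_residueField p)
  have h2 : Function.Injective
      (Algebra.TensorProduct.map (AlgHom.id N C) (IsScalarTower.toAlgHom N (N ⧸ p) p.ResidueField)) := h1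
  haveI : IsReduced (C ⊗[N] p.ResidueField) :=
    isReduced_of_injective (Algebra.TensorProduct.comm N C p.ResidueField).toAlgHom
      (Algebra.TensorProduct.comm N C p.ResidueField).injective
  haveI : IsReduced (C ⊗[N] (N ⧸ p)) := isReduced_of_injective _ h2
  haveI : IsReduced (C ⧸ p.map (algebraMap N C)) := isReduced_of_injective
    (Algebra.TensorProduct.quotIdealMapEquivTensorQuot C p).toRingEquiv.toRingHom
    (Algebra.TensorProduct.quotIdealMapEquivTensorQuot C p).injective
  rw [← Ideal.Quotient.eq_zero_iff_mem] at hd ⊢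
  exact IsReduced.eq_zero _ ⟨2, by rw [pow_two, ← map_mul, hd]⟩

theorem exists_smul_mem (p : Ideal N) {π : N} (hp : ∀ x ∈ p, ∃ s, s ∉ p ∧ s * x ∈ Ideal.span {π})
    [p.IsPrime] {d : C} (hd : d ∈ p.map (algebraMap N C)) :
    ∃ s, s ∉ p ∧ algebraMap N C s * d ∈ Ideal.span {algebraMap N C π} := by
  refine Submodule.span_induction ?_ ?_ ?_ ?_ hd
  · rintro _ ⟨x, hx, rfl⟩
    obtain ⟨s, hs, hsx⟩ := hp x hx
    refine ⟨s, hs, ?_⟩
    rw [← map_mul, ← Set.image_singleton, ← Ideal.map_span]
    exact Ideal.mem_map_of_mem _ hsx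
  · exact ⟨1, p.one_notMem, by simp⟩
  · rintro y z - - ⟨s, hs, hsy⟩ ⟨t, ht, htz⟩
    refine ⟨s * t, fun h => (Ideal.IsPrime.mem_or_mem inferInstance h).elim hs ht, ?_⟩
    rw [map_mul, mul_add]
    refine add_mem ?_ ?_
    · rw [mul_comm (algebraMap N C s), mul_assoc]; exact Ideal.mul_mem_left _ _ hsy
    · rw [mul_assoc]; exact Ideal.mul_mem_left _ _ htz
  · rintro r y - ⟨s, hs, hsy⟩
    exact ⟨s, hs, by rw [smul_eq_mul, mul_left_comm]; exact Ideal.mul_mem_left _ _ hsy⟩

theorem mem_span_of_sq_eq (hred : ∀ (p : Ideal N) [p.IsPrime], IsReduced (p.ResidueField ⊗[N] C))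
    {a : N} (ha : a ≠ 0) {c : C} (h : c * c = algebraMap N C a * c) :
    c ∈ Ideal.span {algebraMap N C a} := by
  classical
  let I : Ideal N := Submodule.comap ((Algebra.linearMap N C).smulRight c)
    ((Ideal.span {algebraMap N C a}).restrictScalars N)
  have hloc : ∀ p ∈ associatedPrimes N (N ⧸ Ideal.span {a}), ¬ I ≤ p := by
    intro p hp
    haveI : p.IsPrime := hp.isPrime
    obtain ⟨π, hπ, hπ0, hπp, hπa⟩ := exists_uniformizer p (S14359.result N a ha p hp)
    obtain ⟨m, s₀, t, hs₀, ht, hst⟩ := hπa a ha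
    have hreg : ∀ k : ℕ, IsSMulRegular C (algebraMap N C (π ^ k)) := fun k =>
      IsSMulRegular.of_flat (fun x y hxy => mul_left_cancel₀ (pow_ne_zero k hπ0) hxy)
    have key : ∀ j ≤ m, ∃ (s : N) (d : C), s ∉ p ∧
        algebraMap N C s * c = algebraMap N C (π ^ j) * d := by
      intro j
      induction j with
      | zero => exact fun _ => ⟨1, c, p.one_notMem, by simp⟩
      | succ j ih =>
        intro hj
        obtain ⟨s, d, hs, hsd⟩ := ih (by omega)
        have e1 : algebraMap N C s₀ * (d * d) = algebraMap N C (t * s * π ^ (m - j)) * d := by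
          refine hreg (2 * j) ?_
          show algebraMap N C (π ^ (2 * j)) * (algebraMap N C s₀ * (d * d)) =
            algebraMap N C (π ^ (2 * j)) * (algebraMap N C (t * s * π ^ (m - j)) * d)
          calc algebraMap N C (π ^ (2 * j)) * (algebraMap N C s₀ * (d * d))
              = algebraMap N C s₀ * ((algebraMap N C (π ^ j) * d) * (algebraMap N C (π ^ j) * d)) := by
                rw [two_mul, pow_add, map_mul]; ring
            _ = algebraMap N C s₀ * (algebraMap N C s * algebraMap N C s) * (c * c) := by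
                rw [← hsd]; ring
            _ = algebraMap N C (s₀ * a) * algebraMap N C s * (algebraMap N C s * c) := by
                rw [h, map_mul]; ring
            _ = _ := by
                rw [hsd, hst]
                simp only [← map_mul, ← mul_assoc]
                congr 2
                rw [show m = j + (m - j) by omega, pow_add, two_mul, pow_add]
                simp only [Nat.add_sub_cancel_left]
                ring
        have e2 : algebraMap N C s₀ * d ∈ p.map (algebraMap N C) := by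
          refine mem_map_of_sq_mem p (hred p) ?_
          have : algebraMap N C (t * s * π ^ (m - j)) ∈ p.map (algebraMap N C) :=
            Ideal.mem_map_of_mem _ (Ideal.mul_mem_left _ _ (Ideal.pow_mem_of_mem _ hπ _ (by omega)))
          rw [show algebraMap N C s₀ * d * (algebraMap N C s₀ * d) =
            algebraMap N C s₀ * (algebraMap N C s₀ * (d * d)) by ring, e1]
          exact Ideal.mul_mem_left _ _ (Ideal.mul_mem_right _ _ this)
        obtain ⟨u, hu, hud⟩ := exists_smul_mem p hπp e2
        obtain ⟨d', hd'⟩ := Ideal.mem_span_singleton'.1 hud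
        refine ⟨u * s₀ * s, d', fun hmem => ?_, ?_⟩
        · exact (Ideal.IsPrime.mem_or_mem inferInstance hmem).elim
            (fun hm => (Ideal.IsPrime.mem_or_mem inferInstance hm).elim hu hs₀) hs
        · rw [map_mul, map_mul, mul_assoc, hsd, pow_succ, map_mul,
            mul_assoc (algebraMap N C (π ^ j)), mul_comm (algebraMap N C π) d', hd']
          ring
    obtain ⟨s, d, hs, hsd⟩ := key m le_rfl
    intro hI
    refine (Ideal.IsPrime.mem_or_mem inferInstance (hI (show t * s ∈ I from ?_))).elim ht hs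
    show algebraMap N C (t * s) * c ∈ Ideal.span {algebraMap N C a}
    rw [map_mul, mul_assoc, hsd, ← mul_assoc, ← map_mul, ← hst, map_mul]
    exact Ideal.mem_span_singleton'.2 ⟨algebraMap N C s₀ * d, by ring⟩
  have hfin : (associatedPrimes N (N ⧸ Ideal.span {a})).Finite := associatedPrimes.finite N _
  obtain ⟨s, hsI, hs⟩ : ∃ s ∈ I, ∀ p ∈ associatedPrimes N (N ⧸ Ideal.span {a}), s ∉ p := by
    by_contra hcon
    have hsub : (I : Set N) ⊆ ⋃ p ∈ (hfin.toFinset : Set (Ideal N)), (p : Set N) := by
      intro r hr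
      by_contra hr'
      refine hcon ⟨r, hr, fun p hp hrp => hr' (Set.mem_iUnion₂.2 ⟨p, ?_, hrp⟩)⟩
      simpa using hp
    obtain ⟨p, hp, hle⟩ := (Ideal.subset_union_prime (f := id) ⊥ ⊥
      fun p hp _ _ => (hfin.mem_toFinset.1 hp).isPrime).1 hsub
    exact hloc p (hfin.mem_toFinset.1 hp) hle
  have hinj : Function.Injective (LinearMap.lsmul N (N ⧸ Ideal.span {a}) s) := by
    refine (injective_iff_map_eq_zero _).2 fun x hx => ?_
    by_contra hne
    have : s ∈ ⋃ p ∈ associatedPrimes N (N ⧸ Ideal.span {a}), (p : Set N) := by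
      rw [biUnion_associatedPrimes_eq_zero_divisors]
      exact ⟨x, hne, hx⟩
    obtain ⟨p, hp, hsp⟩ := Set.mem_iUnion₂.1 this
    exact hs p hp hsp
  have hC := Module.Flat.lTensor_preserves_injective_linearMap (M := C) _ hinj
  let e := Algebra.TensorProduct.quotIdealMapEquivTensorQuot C (Ideal.span {a})
  replace hsI : algebraMap N C s * c ∈ Ideal.span {algebraMap N C a} := hsI
  rw [← Set.image_singleton, ← Ideal.map_span] at hsI ⊢
  rw [← Ideal.Quotient.eq_zero_iff_mem]
  apply e.injective
  rw [map_zero]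
  refine hC ?_
  rw [map_zero]
  have h0 : e (Ideal.Quotient.mk _ (algebraMap N C s * c)) = 0 := by
    rw [Ideal.Quotient.eq_zero_iff_mem.2 hsI, map_zero]
  rw [← h0]
  show LinearMap.lTensor C _ (c ⊗ₜ[N] (1 : N ⧸ Ideal.span {a})) =
    (algebraMap N C s * c) ⊗ₜ[N] (1 : N ⧸ Ideal.span {a})
  rw [LinearMap.lTensor_tmul, LinearMap.lsmul_apply, ← TensorProduct.smul_tmul, Algebra.smul_def]

end Groth.Agent.UnibConn
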