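import Groth.Agent.UnibConn.Fibre
import Mathlib.Algebra.Ring.GeomSum
import Mathlib.RingTheory.Ideal.MinimalPrime.Noetherian

/-!
# The divisorial valuations coming from the formal components
-/

universe u

open TensorProduct

namespace Groth.Agent.UnibConn

/-- Membership in a principal ideal of a normal Noetherian domain is tested at height one primes. -/
theorem mem_span_of_forall_height_one {N : Type u} [CommRing N] [IsDomain N] [IsNoetherianRing N]
    [IsIntegrallyClosed N] {d n : N} (hd : d ≠ 0)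
    (h : ∀ (P : Ideal N) [P.IsPrime], P.height = 1 → ∃ s, s ∉ P ∧ s * n ∈ Ideal.span {d}) :
    n ∈ Ideal.span {d} := by
  by_contra hn
  let I : Ideal N := Ideal.span {d}
  have hx : Ideal.Quotient.mk I n ≠ 0 := fun h0 => hn (Ideal.Quotient.eq_zero_iff_mem.1 h0)
  obtain ⟨P, hP, hPle⟩ := exists_le_isAssociatedPrime_of_isNoetherianRing N _ hx
  haveI := hP.isPrime
  obtain ⟨s, hs, hm⟩ := h P (S14359.result N d hd P hP)
  refine hs (hPle ?_)
  rw [Submodule.mem_colon_singleton, Submodule.mem_bot, Algebra.smul_def, Ideal.Quotient.algebraMap_eq,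
    ← map_mul, Ideal.Quotient.eq_zero_iff_mem]
  exact hm

variable {A : Type u} [CommRing A] [IsDomain A] [IsNoetherianRing A] [IsLocalRing A]
  (K : Type u) [Field K] [Algebra A K] [IsFractionRing A K]

local notation "R'" => AdicCompletion (IsLocalRing.maximalIdeal A) A

variable (A) in
/-- A height one point of a formal component. -/
structure Pt where
  Q : Ideal R'
  hQp : Q.IsPrime
  hQ : Q ∈ minimalPrimes R'
  P : Ideal (NQ Q)
  hPp : P.IsPrime
  hP : P.height = 1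

attribute [instance] Pt.hQp Pt.hPp

/-- The map to the normalised component of a point. -/
noncomputable abbrev Pt.θ (π : Pt A) : integralClosure A K →+* NQ π.Q := thetaQ K π.hQ

/-- `x` has nonnegative order at the point. -/
def Pt.Pos (π : Pt A) (x : K) : Prop :=
  ∃ n s : NQ π.Q, s ∉ π.P ∧ toFQ K π.hQ x * (s : FQ π.Q) = (n : FQ π.Q)

variable {K}

theorem Pt.pos_add {π : Pt A} {x y : K} (hx : π.Pos K x) (hy : π.Pos K y) : π.Pos K (x + y) := by
  obtain ⟨n, s, hs, hx⟩ := hx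
  obtain ⟨m, t, ht, hy⟩ := hy
  refine ⟨n * t + m * s, s * t, fun h => (Ideal.IsPrime.mem_or_mem inferInstance h).elim hs ht, ?_⟩
  push_cast
  rw [map_add, ← hx, ← hy]
  ring

theorem Pt.pos_mul {π : Pt A} {x y : K} (hx : π.Pos K x) (hy : π.Pos K y) : π.Pos K (x * y) := by
  obtain ⟨n, s, hs, hx⟩ := hx
  obtain ⟨m, t, ht, hy⟩ := hy
  refine ⟨n * m, s * t, fun h => (Ideal.IsPrime.mem_or_mem inferInstance h).elim hs ht, ?_⟩
  push_cast
  rw [map_mul, ← hx, ← hy]
  ring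

theorem Pt.pos_neg {π : Pt A} {x : K} (hx : π.Pos K x) : π.Pos K (-x) := by
  obtain ⟨n, s, hs, hx⟩ := hx
  exact ⟨-n, s, hs, by push_cast; rw [map_neg, ← hx, neg_mul]⟩

theorem Pt.pos_of_mem (π : Pt A) (x : integralClosure A K) : π.Pos K (x : K) :=
  ⟨π.θ K x, 1, π.P.one_notMem, by rw [coe_thetaQ]; push_cast; rw [mul_one]⟩

theorem Pt.pos_of_isIntegral (π : Pt A) {x : K} (hx : IsIntegral A x) : π.Pos K x := π.pos_of_mem ⟨x, hx⟩

theorem Pt.pos_of_mul {π : Pt A} (s : integralClosure A K) (hs : π.θ K s ∉ π.P) {x : K}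
    (h : π.Pos K ((s : K) * x)) : π.Pos K x := by
  obtain ⟨n, t, ht, hx⟩ := h
  refine ⟨n, π.θ K s * t, fun h => (Ideal.IsPrime.mem_or_mem inferInstance h).elim hs ht, ?_⟩
  push_cast
  rw [coe_thetaQ, ← hx, map_mul]
  ring

theorem Pt.not_pos_inv {π : Pt A} (s : integralClosure A K) (hs : π.θ K s ∈ π.P) (hs0 : (s : K) ≠ 0) :
    ¬ π.Pos K (s : K)⁻¹ := by
  rintro ⟨n, t, ht, h⟩
  refine ht ?_
  have : t = π.θ K s * n := by
    refine Subtype.ext ?_
    push_cast
    rw [coe_thetaQ, ← h, ← mul_assoc, ← map_mul, mul_inv_cancel₀ hs0, map_one, one_mul]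
  rw [this]
  exact Ideal.mul_mem_right _ _ hs

/-- Order data at a point. -/
theorem Pt.exists_order (π : Pt A) :
    ∃ ϖ : NQ π.Q, ϖ ∈ π.P ∧ ϖ ≠ 0 ∧ (∀ y ∈ π.P, ∃ s, s ∉ π.P ∧ s * y ∈ Ideal.span {ϖ}) ∧
      ∀ a : NQ π.Q, a ≠ 0 → ∃ (m : ℕ) (s t : NQ π.Q), s ∉ π.P ∧ t ∉ π.P ∧ s * a = t * ϖ ^ m := by
  haveI := isNoetherianRing_NQ (A := A) π.Q
  haveI := isIntegrallyClosed_NQ (A := A) π.Q
  obtain ⟨ϖ, h1, h2, h3, h4⟩ := exists_uniformizer π.P π.hP
  exact ⟨ϖ, h1, h2, h3, h4⟩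

/-- Every element is a unit times a power of the uniformizer. -/
theorem Pt.exists_frac (π : Pt A) (x : K) (hx : x ≠ 0) :
    ∃ (ϖ : NQ π.Q) (m l : ℕ) (u v : NQ π.Q), ϖ ∈ π.P ∧ u ∉ π.P ∧ v ∉ π.P ∧ ϖ ≠ 0 ∧
      toFQ K π.hQ x * (v : FQ π.Q) * (ϖ : FQ π.Q) ^ l = (u : FQ π.Q) * (ϖ : FQ π.Q) ^ m := by
  obtain ⟨ϖ, hϖ, hϖ0, -, hord⟩ := π.exists_order
  obtain ⟨r, a, ha, rfl⟩ := IsFractionRing.div_surjective A x
  have hinj := injective_toFQ (A := A) π.hQ
  let r' : integralClosure A K := algebraMap A _ r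
  let a' : integralClosure A K := algebraMap A _ a
  have hr0 : π.θ K r' ≠ 0 := fun h0 => hx (by
    have : r' = 0 := thetaQ_injective K π.hQ (h0.trans (map_zero _).symm)
    have h2 : algebraMap A K r = 0 := congrArg Subtype.val this
    rw [h2, zero_div])
  have ha0 : π.θ K a' ≠ 0 := fun h0 => nonZeroDivisors.ne_zero ha (IsFractionRing.injective A K (by
    have : a' = 0 := thetaQ_injective K π.hQ (h0.trans (map_zero _).symm)
    exact (congrArg Subtype.val this).trans (map_zero _).symm))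
  obtain ⟨m, s, t, hs, ht, hst⟩ := hord _ hr0
  obtain ⟨l, s', t', hs', ht', hst'⟩ := hord _ ha0
  refine ⟨ϖ, m, l, t * s', s * t', hϖ, fun h => (Ideal.IsPrime.mem_or_mem inferInstance h).elim ht hs',
    fun h => (Ideal.IsPrime.mem_or_mem inferInstance h).elim hs ht', hϖ0, ?_⟩
  have e1 : (s : FQ π.Q) * algebraMap A (FQ π.Q) r = (t : FQ π.Q) * (ϖ : FQ π.Q) ^ m := by
    have := congrArg Subtype.val hst
    push_cast at this
    rw [coe_thetaQ] at this
    rwa [show toFQ K π.hQ ((r' : integralClosure A K) : K) = algebraMap A (FQ π.Q) r from AlgHom.commutes _ _] at this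
  have e2 : (s' : FQ π.Q) * algebraMap A (FQ π.Q) a = (t' : FQ π.Q) * (ϖ : FQ π.Q) ^ l := by
    have := congrArg Subtype.val hst'
    push_cast at this
    rw [coe_thetaQ] at this
    rwa [show toFQ K π.hQ ((a' : integralClosure A K) : K) = algebraMap A (FQ π.Q) a from AlgHom.commutes _ _] at this
  have haF : algebraMap A (FQ π.Q) (a : A) ≠ 0 := fun h0 =>
    nonZeroDivisors.ne_zero ha (hinj (h0.trans (map_zero _).symm))
  push_cast
  rw [map_div₀, AlgHom.commutes, AlgHom.commutes, div_mul_eq_mul_div, div_mul_eq_mul_div, div_eq_iff haF]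
  calc algebraMap A (FQ π.Q) r * ((s : FQ π.Q) * (t' : FQ π.Q)) * (ϖ : FQ π.Q) ^ l
      = ((s : FQ π.Q) * algebraMap A (FQ π.Q) r) * ((t' : FQ π.Q) * (ϖ : FQ π.Q) ^ l) := by ring
    _ = _ := by rw [e1, ← e2]; ring

theorem Pt.pos_of_order_le {π : Pt A} {x : K} {ϖ u v : NQ π.Q} {m l : ℕ} (hv : v ∉ π.P) (hϖ : ϖ ≠ 0) (hlm : l ≤ m)
    (h : toFQ K π.hQ x * (v : FQ π.Q) * (ϖ : FQ π.Q) ^ l = (u : FQ π.Q) * (ϖ : FQ π.Q) ^ m) : π.Pos K x := by
  refine ⟨u * ϖ ^ (m - l), v, hv, ?_⟩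
  have hne : (ϖ : FQ π.Q) ≠ 0 := fun h0 => hϖ (Subtype.ext h0)
  refine mul_right_cancel₀ (pow_ne_zero l hne) ?_
  rw [h]
  push_cast
  rw [mul_assoc, ← pow_add, Nat.sub_add_cancel hlm]

theorem Pt.pos_or_pos_inv (π : Pt A) (x : K) : π.Pos K x ∨ π.Pos K x⁻¹ := by
  by_cases hx : x = 0
  · subst hx
    exact Or.inl ⟨0, 1, π.P.one_notMem, by simp⟩
  obtain ⟨ϖ, m, l, u, v, -, hu, hv, hϖ, h⟩ := π.exists_frac x hx
  rcases le_total l m with hlm | hlm
  · exact Or.inl (Pt.pos_of_order_le hv hϖ hlm h)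
  · refine Or.inr (Pt.pos_of_order_le (u := v) hu hϖ hlm ?_)
    have hx' : toFQ K π.hQ x ≠ 0 := fun h0 => hx ((toFQ K π.hQ).toRingHom.injective (h0.trans (map_zero _).symm))
    rw [map_inv₀, mul_assoc, ← h]
    field_simp

/-- A high power of an element vanishing at the point clears the pole. -/
theorem Pt.exists_pow_pos (π : Pt A) (s : integralClosure A K) (hs : π.θ K s ∈ π.P) (x : K) :
    ∃ k : ℕ, ∀ k' ≥ k, π.Pos K ((s : K) ^ k' * x) := by
  obtain ⟨n₀, d, hd, rfl⟩ := IsFractionRing.div_surjective A x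
  obtain ⟨ϖ, hϖ, hϖ0, hspan, hord⟩ := π.exists_order
  let a' : integralClosure A K := algebraMap A _ d
  let n' : integralClosure A K := algebraMap A _ n₀
  have hdK : algebraMap A K (d : A) ≠ 0 := fun h0 =>
    nonZeroDivisors.ne_zero hd (IsFractionRing.injective A K (h0.trans (map_zero _).symm))
  have ha0 : π.θ K a' ≠ 0 := fun h0 => hdK (by
    have : a' = 0 := thetaQ_injective K π.hQ (h0.trans (map_zero _).symm)
    exact congrArg Subtype.val this)
  obtain ⟨m, u, t, hu, ht, hut⟩ := hord _ ha0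
  obtain ⟨w, hw, hws⟩ := hspan _ hs
  obtain ⟨z, hz⟩ := Ideal.mem_span_singleton'.1 hws
  refine ⟨m, fun k hk => ⟨z ^ k * ϖ ^ (k - m) * u * π.θ K n', w ^ k * t,
    fun h => (Ideal.IsPrime.mem_or_mem inferInstance h).elim
      (fun h' => hw (Ideal.IsPrime.mem_of_pow_mem inferInstance _ h')) ht, ?_⟩⟩
  have key : π.θ K (s ^ k) * π.θ K n' * (w ^ k * t) = z ^ k * ϖ ^ (k - m) * u * π.θ K n' * π.θ K a' := by
    calc π.θ K (s ^ k) * π.θ K n' * (w ^ k * t) = (w * π.θ K s) ^ k * π.θ K n' * t := by rw [map_pow]; ring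
      _ = z ^ k * ϖ ^ (k - m) * π.θ K n' * (t * ϖ ^ m) := by
        rw [← hz, mul_pow]
        conv_lhs => rw [show k = (k - m) + m by omega, pow_add, pow_add]
        conv_rhs => rw [show k = (k - m) + m by omega, pow_add]
        simp only [show k - m + m - m = k - m by omega]
        ring
      _ = _ := by rw [← hut]; ring
  have key' := congrArg Subtype.val key
  push_cast at key'
  rw [coe_thetaQ, coe_thetaQ, coe_thetaQ] at key'
  have haF : toFQ K π.hQ (algebraMap A K (d : A)) ≠ 0 := fun h0 =>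
    hdK ((toFQ K π.hQ).toRingHom.injective (h0.trans (map_zero _).symm))
  push_cast
  rw [coe_thetaQ, map_mul, map_div₀]
  refine mul_right_cancel₀ haF ?_
  rw [mul_assoc, mul_comm _ (toFQ K π.hQ (algebraMap A K (d : A))), ← mul_assoc, mul_assoc (toFQ K π.hQ ((s : K) ^ k)),
    div_mul_cancel₀ _ haF]
  exact key'

/-- Only finitely many points contain a given nonzero element. -/
theorem finite_points_mem (g : ∀ Q : Ideal R', ∀ [Q.IsPrime], NQ Q)
    (hg : ∀ (Q : Ideal R') [Q.IsPrime], Q ∈ minimalPrimes R' → g Q ≠ 0) :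
    {π : Pt A | g π.Q ∈ π.P}.Finite := by
  classical
  haveI := isNoetherianRing_completion (A := A)
  let T := {Q : Ideal R' // Q ∈ minimalPrimes R'}
  haveI : Finite T := (minimalPrimes.finite_of_isNoetherianRing R').to_subtype
  haveI : ∀ Q : T, (Q.1).IsPrime := fun Q => Q.2.1.1
  have hfin : ∀ Q : T, Finite {P : Ideal (NQ Q.1) // P ∈ (Ideal.span {g Q.1}).minimalPrimes} := fun Q =>
    haveI := isNoetherianRing_NQ (A := A) Q.1
    (Ideal.finite_minimalPrimes_of_isNoetherianRing (NQ Q.1) _).to_subtype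
  have hmin : ∀ π : {π : Pt A // g π.Q ∈ π.P}, π.1.P ∈ (Ideal.span {g π.1.Q}).minimalPrimes := by
    rintro ⟨π, hπ⟩
    have hle : Ideal.span {g π.Q} ≤ π.P := (Ideal.span_singleton_le_iff_mem _).2 hπ
    haveI : π.P.FiniteHeight := ⟨Or.inr (by rw [π.hP]; exact ENat.one_ne_top)⟩
    refine Ideal.mem_minimalPrimes_of_height_le hle ?_
    rw [π.hP, Order.one_le_iff_ne_zero]
    intro h0
    obtain ⟨J, hJ, hJ0⟩ : ∃ J ∈ (Ideal.span {g π.Q}).minimalPrimes, J.height = 0 := by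
      by_contra! hall
      have h1 : (1 : ℕ∞) ≤ (Ideal.span {g π.Q}).height := by
        rw [Ideal.height_eq_inf_minimalPrimes]
        exact le_iInf₂ fun J hJ => Order.one_le_iff_ne_zero.2 (hall J hJ)
      rw [h0] at h1
      exact absurd h1 (by simp)
    haveI := hJ.isPrime
    rw [Ideal.height_eq_zero_iff, IsDomain.minimalPrimes_eq_singleton_bot, Set.mem_singleton_iff] at hJ0
    exact hg π.Q π.hQ (by simpa [hJ0] using hJ.1.2 (Ideal.mem_span_singleton_self _))
  haveI := hfin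
  haveI : Finite {π : Pt A // g π.Q ∈ π.P} := by
    refine Finite.of_injective (fun π => (⟨⟨π.1.Q, π.1.hQ⟩, ⟨π.1.P, hmin π⟩⟩ :
      Σ Q : T, {P : Ideal (NQ Q.1) // P ∈ (Ideal.span {g Q.1}).minimalPrimes})) ?_
    rintro ⟨⟨Q, _, _, P, _, _⟩, h1⟩ ⟨⟨Q', _, _, P', _, _⟩, h2⟩ he
    obtain rfl : Q = Q' := congrArg (fun z => z.1.1) he
    simp only [Sigma.mk.injEq, heq_eq_eq, Subtype.mk.injEq, true_and] at he
    subst he
    rfl
  exact Set.finite_coe_iff.1 (inferInstanceAs (Finite {π : Pt A // g π.Q ∈ π.P}))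

/-- Only finitely many poles. -/
theorem finite_not_pos (x : K) : {π : Pt A | ¬ π.Pos K x}.Finite := by
  obtain ⟨r, a, ha, rfl⟩ := IsFractionRing.div_surjective A x
  have haK : algebraMap A K (a : A) ≠ 0 := fun h0 =>
    nonZeroDivisors.ne_zero ha (IsFractionRing.injective A K (h0.trans (map_zero _).symm))
  refine (finite_points_mem (A := A) (fun Q _ => algebraMap (R' ⧸ Q) (NQ Q) (algebraMap A (R' ⧸ Q) a))
    (fun Q _ hQ h0 => ?_)).subset fun π hπ => ?_
  · refine nonZeroDivisors.ne_zero ha (injective_toFQ hQ ?_)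
    have := congrArg Subtype.val h0
    rw [map_zero]
    exact (IsScalarTower.algebraMap_apply A (R' ⧸ Q) (FQ Q) _).trans this
  · by_contra hn
    have hθ : (π.θ K (algebraMap A _ (a : A))) = algebraMap (R' ⧸ π.Q) (NQ π.Q) (algebraMap A (R' ⧸ π.Q) a) :=
      Subtype.ext (by
        rw [coe_thetaQ]
        exact (AlgHom.commutes _ _).trans (IsScalarTower.algebraMap_apply A (R' ⧸ π.Q) (FQ π.Q) _))
    refine hπ (Pt.pos_of_mul (algebraMap A (integralClosure A K) a) (fun h => hn ?_) ?_)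
    · rw [hθ] at h; exact h
    show π.Pos K (algebraMap A K a * (algebraMap A K r / algebraMap A K a))
    rw [mul_div_cancel₀ _ haK]
    exact π.pos_of_isIntegral isIntegral_algebraMap

/-- The normalisation is the intersection of the valuation rings of the points. -/
theorem isIntegral_iff_forall_pos (x : K) : IsIntegral A x ↔ ∀ π : Pt A, π.Pos K x := by
  refine ⟨fun h π => π.pos_of_isIntegral h, fun h => isIntegral_of_forall_toFQ K fun Q _ hQ => ?_⟩
  haveI := isNoetherianRing_NQ (A := A) Q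
  haveI := isIntegrallyClosed_NQ (A := A) Q
  obtain ⟨⟨n, ⟨d, hd⟩⟩, hnd⟩ := IsLocalization.surj (nonZeroDivisors (R' ⧸ Q)) (toFQ K hQ x)
  let d' : NQ Q := algebraMap (R' ⧸ Q) (NQ Q) d
  let n' : NQ Q := algebraMap (R' ⧸ Q) (NQ Q) n
  have hd' : d' ≠ 0 := fun h0 => nonZeroDivisors.ne_zero hd
    (IsFractionRing.injective (R' ⧸ Q) (FQ Q) ((congrArg Subtype.val h0).trans (map_zero _).symm))
  have hx : toFQ K hQ x * (d' : FQ Q) = (n' : FQ Q) := hnd
  have hmem : n' ∈ Ideal.span {d'} := by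
    refine mem_span_of_forall_height_one hd' fun P _ hP1 => ?_
    obtain ⟨m, s, hs, hm⟩ := h ⟨Q, inferInstance, hQ, P, inferInstance, hP1⟩
    refine ⟨s, hs, Ideal.mem_span_singleton'.2 ⟨m, Subtype.ext ?_⟩⟩
    push_cast
    rw [← hm, ← hx]
    ring
  obtain ⟨z, hz⟩ := Ideal.mem_span_singleton'.1 hmem
  have hz' : (z : FQ Q) * (d' : FQ Q) = (n' : FQ Q) := congrArg Subtype.val hz
  have hd0 : (d' : FQ Q) ≠ 0 := fun h0 => hd' (Subtype.ext h0)
  rw [mul_right_cancel₀ hd0 (hx.trans hz'.symm)]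
  exact z.2

/-- A separating element for each formal component: it lies in the other components and clears denominators. -/
theorem exists_conductor (Q : Ideal R') [Q.IsPrime] (hQ : Q ∈ minimalPrimes R') :
    ∃ g : R', g ∉ Q ∧ (∀ Q' ∈ minimalPrimes R', Q' ≠ Q → g ∈ Q') ∧
      ∀ n : NQ Q, ∃ z : R', algebraMap R' (NQ Q) g * n = algebraMap R' (NQ Q) z := by
  classical
  haveI := isNoetherianRing_completion (A := A)
  haveI := finite_NQ (A := A) Q
  have hfinT := minimalPrimes.finite_of_isNoetherianRing R'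
  obtain ⟨G, hG⟩ := (Module.Finite.fg_top : (⊤ : Submodule (R' ⧸ Q) (NQ Q)).FG)
  obtain ⟨⟨c, hc⟩, hc'⟩ := IsLocalization.exist_integer_multiples_of_finset (nonZeroDivisors (R' ⧸ Q))
    (Finset.image (fun n : NQ Q => (n : FQ Q)) G)
  have hcN : ∀ n : NQ Q, ∃ w : R' ⧸ Q, algebraMap (R' ⧸ Q) (NQ Q) c * n = algebraMap (R' ⧸ Q) (NQ Q) w := by
    intro n
    have hn : n ∈ Submodule.span (R' ⧸ Q) (G : Set (NQ Q)) := hG ▸ Submodule.mem_top
    refine Submodule.span_induction ?_ ⟨0, by simp⟩ ?_ ?_ hn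
    · intro y hy
      obtain ⟨w, hw⟩ := hc' (y : FQ Q) (Finset.mem_image.2 ⟨y, hy, rfl⟩)
      refine ⟨w, Subtype.ext ?_⟩
      push_cast
      rw [← Algebra.smul_def]
      exact hw.symm
    · rintro y z - - ⟨w, hw⟩ ⟨w', hw'⟩
      exact ⟨w + w', by rw [mul_add, hw, hw', map_add]⟩
    · rintro r y - ⟨w, hw⟩
      exact ⟨r * w, by rw [Algebra.smul_def, mul_left_comm, hw, map_mul]⟩
  obtain ⟨c₁, rfl⟩ := Ideal.Quotient.mk_surjective c
  obtain ⟨s, hsJ, hsQ⟩ : ∃ s, s ∈ ∏ P ∈ hfinT.toFinset.erase Q, P ∧ s ∉ Q := by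
    refine SetLike.not_le_iff_exists.1 fun hle => ?_
    obtain ⟨P, hP, hPQ⟩ := (‹Q.IsPrime›.prod_le).1 hle
    obtain ⟨hne, hmem⟩ := Finset.mem_erase.1 hP
    exact hne (le_antisymm hPQ (hQ.2 (hfinT.mem_toFinset.1 hmem).1 hPQ))
  refine ⟨c₁ * s, fun h => ?_, fun Q' hQ' hne => ?_, fun n => ?_⟩
  · rcases (Ideal.IsPrime.mem_or_mem inferInstance h) with h1 | h1
    · exact nonZeroDivisors.ne_zero hc (Ideal.Quotient.eq_zero_iff_mem.2 h1)
    · exact hsQ h1
  · exact Ideal.mul_mem_left _ _ (le_trans Ideal.prod_le_inf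
      (Finset.inf_le (f := id) (Finset.mem_erase.2 ⟨hne, hfinT.mem_toFinset.2 hQ'⟩)) hsJ)
  · obtain ⟨w, hw⟩ := hcN n
    obtain ⟨w, rfl⟩ := Ideal.Quotient.mk_surjective w
    refine ⟨s * w, ?_⟩
    rw [map_mul, map_mul, mul_comm (algebraMap R' (NQ Q) c₁), mul_assoc,
      IsScalarTower.algebraMap_apply R' (R' ⧸ Q) (NQ Q) c₁, IsScalarTower.algebraMap_apply R' (R' ⧸ Q) (NQ Q) w]
    exact congrArg (algebraMap R' (NQ Q) s * ·) hw

/-- The separating element of a component. -/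
noncomputable def sep (Q : Ideal R') [Q.IsPrime] : R' :=
  haveI := Classical.propDecidable (Q ∈ minimalPrimes R')
  if hQ : Q ∈ minimalPrimes R' then (exists_conductor Q hQ).choose else 0

theorem sep_spec (Q : Ideal R') [Q.IsPrime] (hQ : Q ∈ minimalPrimes R') :
    sep Q ∉ Q ∧ (∀ Q' ∈ minimalPrimes R', Q' ≠ Q → sep Q ∈ Q') ∧
      ∀ n : NQ Q, ∃ z : R', algebraMap R' (NQ Q) (sep Q) * n = algebraMap R' (NQ Q) z := by
  rw [sep, dif_pos hQ]
  exact (exists_conductor Q hQ).choose_spec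

/-- A point is bad if it contains the separating element of its component. -/
def Pt.Bad (π : Pt A) : Prop := algebraMap R' (NQ π.Q) (sep π.Q) ∈ π.P

theorem finite_bad : {π : Pt A | π.Bad}.Finite :=
  finite_points_mem (A := A) (fun Q _ => algebraMap R' (NQ Q) (sep Q)) fun Q _ hQ h0 => by
    refine (sep_spec Q hQ).1 (Ideal.Quotient.eq_zero_iff_mem.1 ?_)
    refine IsFractionRing.injective (R' ⧸ Q) (FQ Q) ((congrArg Subtype.val h0).trans (map_zero _).symm)

variable (π : Pt A)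

/-- The centre of a point in the completion. -/
noncomputable abbrev Pt.centreHat : Ideal R' := π.P.comap (algebraMap R' (NQ π.Q))

/-- The centre of a point in `A`. -/
noncomputable abbrev Pt.centre : Ideal A := π.centreHat.comap (algebraMap A R')

theorem Pt.eq_of_le_centreHat (hπ : ¬ π.Bad) (Z : Ideal R') [Z.IsPrime] (hZ : Z ≤ π.centreHat) :
    Z = π.Q ∨ Z = π.centreHat := by
  haveI := isNoetherianRing_completion (A := A)
  haveI := finite_NQ (A := A) π.Q
  haveI : Module.Finite R' (NQ π.Q) := Module.Finite.trans (R' ⧸ π.Q) (NQ π.Q)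
  obtain ⟨hsQ, hsO, hsN⟩ := sep_spec π.Q π.hQ
  obtain ⟨Q', hQ', hQ'Z⟩ := Ideal.exists_minimalPrimes_le (I := (⊥ : Ideal R')) (J := Z) bot_le
  have hQ'eq : Q' = π.Q := by
    by_contra hne
    exact hπ (hZ (hQ'Z (hsO Q' hQ' hne)))
  subst hQ'eq
  by_contra! hcon
  obtain ⟨hZQ, hZc⟩ := hcon
  have hker : ∀ x, algebraMap R' (NQ π.Q) x = 0 ↔ x ∈ π.Q := fun x => by
    rw [IsScalarTower.algebraMap_apply R' (R' ⧸ π.Q) (NQ π.Q), Ideal.Quotient.algebraMap_eq]
    refine ⟨fun h => Ideal.Quotient.eq_zero_iff_mem.1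
      (IsFractionRing.injective (R' ⧸ π.Q) (FQ π.Q) ((congrArg Subtype.val h).trans (map_zero _).symm)),
      fun h => by rw [Ideal.Quotient.eq_zero_iff_mem.2 h, map_zero]⟩
  haveI : Algebra.IsIntegral R' (NQ π.Q) := inferInstance
  obtain ⟨P₁, hP₁, hP₁Z⟩ := Ideal.exists_ideal_over_prime_of_isIntegral (R := R') (S := NQ π.Q) Z ⊥ (fun x hx =>
    hQ'Z ((hker x).1 (Ideal.mem_bot.1 (Ideal.mem_comap.1 hx))))
  haveI := hP₁Z.1
  have hP₁c : P₁.comap (algebraMap R' (NQ π.Q)) = Z := hP₁Z.2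
  have hle : P₁ ≤ π.P := fun n hn => by
    obtain ⟨z, hz⟩ := hsN n
    have h1 : z ∈ P₁.comap (algebraMap R' (NQ π.Q)) := by
      rw [Ideal.mem_comap, ← hz]; exact Ideal.mul_mem_left _ _ hn
    have h2 : algebraMap R' (NQ π.Q) z ∈ π.P := hZ (hP₁c.le h1)
    rw [← hz] at h2
    exact (Ideal.IsPrime.mem_or_mem inferInstance h2).resolve_left hπ
  have hlt : P₁ < π.P := lt_of_le_of_ne hle fun h => hZc (by rw [← hP₁c, h])
  have hne : P₁ ≠ ⊥ := fun h => hZQ (le_antisymm (fun x hx => (hker x).1 (by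
    have := hP₁c.ge hx
    rwa [h, Ideal.mem_comap, Submodule.mem_bot] at this)) hQ'Z)
  haveI : P₁.FiniteHeight := ⟨Or.inr (ne_top_of_le_ne_top ENat.one_ne_top
    ((Ideal.height_mono hle).trans π.hP.le))⟩
  have h1 := Ideal.height_strict_mono_of_isPrime hlt
  rw [π.hP, Order.lt_one_iff, Ideal.height_eq_zero_iff, IsDomain.minimalPrimes_eq_singleton_bot] at h1
  exact hne h1

/-- The centre in `A` of a good point has height at most one. -/
theorem Pt.centre_minimal (hπ : ¬ π.Bad) (z : Ideal A) [z.IsPrime] (hz0 : z ≠ ⊥) (hz : z ≤ π.centre) :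
    z = π.centre := by
  haveI : π.centreHat.IsPrime := Ideal.comap_isPrime _ _
  haveI : π.centre.IsPrime := Ideal.comap_isPrime _ _
  haveI : π.centreHat.LiesOver π.centre := ⟨rfl⟩
  obtain ⟨Z, hZ, hZp, hover⟩ := π.centreHat.exists_ideal_le_liesOver_of_le (p := z) (q := π.centre) hz
  rcases π.eq_of_le_centreHat hπ Z hZ with rfl | rfl
  · exfalso
    refine hz0 (le_bot_iff.1 fun a ha => (Submodule.mem_bot _).2 ?_)
    by_contra ha0
    exact algebraMap_notMem_minimalPrimes ha0 π.hQ (show algebraMap A R' a ∈ π.Q from hover.over.le ha)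
  · exact hover.over

/-- At a good point, a nonnegative element is integral up to a factor prime to the centre. -/
theorem Pt.exists_isIntegral (hπ : ¬ π.Bad) {x : K} (hx : π.Pos K x) :
    ∃ t : A, t ∉ π.centre ∧ IsIntegral A (algebraMap A K t * x) := by
  classical
  haveI := isNoetherianRing_completion (A := A)
  obtain ⟨hsQ, hsO, hsN⟩ := sep_spec π.Q π.hQ
  obtain ⟨r, a, ha, rfl⟩ := IsFractionRing.div_surjective A x
  have ha0 : (a : A) ≠ 0 := nonZeroDivisors.ne_zero ha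
  obtain ⟨n, s, hs, hns⟩ := hx
  obtain ⟨zs, hzs⟩ := hsN s
  obtain ⟨zn, hzn⟩ := hsN n
  let g := sep π.Q
  have haF : algebraMap A (FQ π.Q) (a : A) ≠ 0 := fun h0 => ha0 (injective_toFQ π.hQ (h0.trans (map_zero _).symm))
  have hmemQ : zs * algebraMap A R' r - zn * algebraMap A R' (a : A) ∈ π.Q := by
    refine Ideal.Quotient.eq_zero_iff_mem.1 (IsFractionRing.injective (R' ⧸ π.Q) (FQ π.Q) ?_)
    rw [map_div₀, AlgHom.commutes, AlgHom.commutes, div_mul_eq_mul_div, div_eq_iff haF] at hns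
    have e1 := congrArg Subtype.val hzs
    have e2 := congrArg Subtype.val hzn
    push_cast at e1 e2
    rw [map_zero, ← Ideal.Quotient.algebraMap_eq, ← IsScalarTower.algebraMap_apply, map_sub, map_mul, map_mul,
      ← IsScalarTower.algebraMap_apply A R' (FQ π.Q), ← IsScalarTower.algebraMap_apply A R' (FQ π.Q),
      ← e1, ← e2, mul_assoc, mul_comm (s : FQ π.Q), hns]
    ring
  let σ := g * zs
  let w := g * zn
  have hσ : σ ∉ π.centreHat := by
    intro h
    rw [Ideal.mem_comap, map_mul, ← hzs] at h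
    rcases (Ideal.IsPrime.mem_or_mem inferInstance h) with h1 | h1
    · exact hπ h1
    · exact (Ideal.IsPrime.mem_or_mem inferInstance h1).elim hπ hs
  have hnil : σ * algebraMap A R' r - w * algebraMap A R' (a : A) ∈ nilradical R' := by
    rw [nilradical_eq_sInf]
    refine Ideal.mem_sInf.2 fun {P} hP => ?_
    haveI : P.IsPrime := hP
    obtain ⟨Q', hQ', hQ'P⟩ := Ideal.exists_minimalPrimes_le (I := (⊥ : Ideal R')) (J := P) bot_le
    refine hQ'P ?_
    rw [show σ * algebraMap A R' r - w * algebraMap A R' (a : A) =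
      g * (zs * algebraMap A R' r - zn * algebraMap A R' (a : A)) by ring]
    by_cases hne : Q' = π.Q
    · exact Ideal.mul_mem_left _ _ (hne ▸ hmemQ)
    · exact Ideal.mul_mem_right _ _ (hsO Q' hQ' hne)
  obtain ⟨N₀, hN₀⟩ := mem_nilradical.1 hnil
  let N := N₀ + 1
  let a₁ := algebraMap A R' (a : A)
  let r₁ := algebraMap A R' r
  let J : Ideal A := Ideal.span {(a : A)} * Ideal.span {r, (a : A)} ^ (N - 1)
  have hJ : J.map (algebraMap A R') = Ideal.span {a₁} * Ideal.span {r₁, a₁} ^ (N - 1) := by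
    rw [Ideal.map_mul, Ideal.map_pow, Ideal.map_span, Ideal.map_span, Set.image_singleton, Set.image_pair]
  have hrel : σ ^ N * algebraMap A R' (r ^ N) ∈ J.map (algebraMap A R') := by
    have hzero : (σ * r₁ - w * a₁) ^ N = 0 := by rw [pow_succ, hN₀, zero_mul]
    have e := geom_sum₂_mul (σ * r₁) (σ * r₁ - w * a₁) N
    rw [hzero, sub_zero, sub_sub_cancel] at e
    rw [map_pow, ← mul_pow, ← e, hJ]
    rw [show (∑ i ∈ Finset.range N, (σ * r₁) ^ i * (σ * r₁ - w * a₁) ^ (N - 1 - i)) * (w * a₁) =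
      a₁ * ((∑ i ∈ Finset.range N, (σ * r₁) ^ i * (σ * r₁ - w * a₁) ^ (N - 1 - i)) * w) by ring]
    refine Ideal.mul_mem_mul (Ideal.mem_span_singleton_self _) (Ideal.mul_mem_right _ _ (Ideal.sum_mem _ fun i hi => ?_))
    have hi' : i < N := Finset.mem_range.1 hi
    have hr : r₁ ∈ Ideal.span {r₁, a₁} := Ideal.subset_span (Set.mem_insert _ _)
    have ha' : a₁ ∈ Ideal.span {r₁, a₁} := Ideal.subset_span (Set.mem_insert_of_mem _ (Set.mem_singleton _))
    have hpow : Ideal.span {r₁, a₁} ^ (N - 1) = Ideal.span {r₁, a₁} ^ i * Ideal.span {r₁, a₁} ^ (N - 1 - i) := by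
      rw [← pow_add]; congr 1; omega
    rw [hpow]
    exact Ideal.mul_mem_mul (Ideal.pow_mem_pow (Ideal.mul_mem_left _ _ hr) _)
      (Ideal.pow_mem_pow (sub_mem (Ideal.mul_mem_left _ _ hr) (Ideal.mul_mem_left _ _ ha')) _)
  obtain ⟨ι, _, c, b, hσc, hc⟩ := exists_colon_ideal_repr (B := R') (r ^ N) J hrel
  have hq : ∃ l, c l ∉ π.centre := by
    by_contra! hall
    refine hσ (Ideal.IsPrime.mem_of_pow_mem (Ideal.comap_isPrime _ _) N ?_)
    rw [hσc]
    refine Ideal.sum_mem _ fun l _ => ?_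
    rw [Algebra.smul_def]
    exact Ideal.mul_mem_right _ _ (hall l)
  obtain ⟨l, hl⟩ := hq
  refine ⟨c l, hl, ?_⟩
  rw [mul_div_assoc', ← map_mul]
  refine isIntegral_div K (fun h0 => ha0 (IsFractionRing.injective A K (h0.trans (map_zero _).symm))) N (by omega) ?_
  rw [mul_pow, show c l ^ N = c l ^ (N - 1) * c l by rw [← pow_succ, show N - 1 + 1 = N by omega], mul_assoc]
  have h1 := Ideal.mul_mem_mul (Ideal.pow_mem_pow (Ideal.mem_span_singleton_self (c l)) (N - 1)) (hc l)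
  refine SetLike.le_def.1 ?_ h1
  rw [mul_left_comm, ← mul_pow]
  refine Ideal.mul_mono le_rfl (Ideal.pow_right_mono ?_ _)
  rw [Ideal.span_mul_span', Set.singleton_mul, Set.image_pair]
  refine Ideal.span_le.2 ?_
  rintro y (rfl | rfl)
  · exact Ideal.subset_span (Set.mem_insert _ _)
  · exact Ideal.mul_mem_left _ _ (Ideal.subset_span (Set.mem_insert_of_mem _ (Set.mem_singleton _)))

end Groth.Agent.UnibConn
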